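import Mathlib

/-!
# An element of order three with a single cubic Jordan block

Frames attached to a four-group permuted cyclically by such an element, and fixed point counts.
-/

set_option autoImplicit false
set_option linter.style.haveILetI false

namespace CfsgLib.SolvStruct.JordanThree

variable {G : Type*} [Group G] {V : Type*} [AddCommGroup V] [Module (ZMod 3) V]

/-- `b` has order dividing three, `b - 1` has rank at most two and its square rank at most one. -/
structure Jordan (ρ : Representation (ZMod 3) G V) (b : G) : Prop where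
  cube : b ^ 3 = 1
  rank₁ : Module.finrank (ZMod 3) (LinearMap.range (ρ b - 1)) ≤ 2
  rank₂ : Module.finrank (ZMod 3) (LinearMap.range ((ρ b - 1) ^ 2)) ≤ 1

/-- Three commuting involutions with product one, cyclically permuted by `b`. -/
structure Triple (b : G) (z : Fin 3 → G) : Prop where
  sq : ∀ i, z i * z i = 1
  mul : ∀ i, z i * z (i + 1) = z (i + 2)
  comm : ∀ i j, Commute (z i) (z j)
  conj : ∀ i, b * z i * b⁻¹ = z (i + 1)
  ne : ∀ i, z i ≠ 1

theorem Triple.mul' {b : G} {z : Fin 3 → G} (hz : Triple b z) (i : Fin 3) :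
    z i * z (i + 2) = z (i + 1) := by
  have := hz.mul (i + 2)
  rw [show i + 2 + 1 = i by fin_cases i <;> rfl, show i + 2 + 2 = i + 1 by fin_cases i <;> rfl]
    at this
  rw [(hz.comm i (i + 2)).eq, this]

/-- A nontrivial involution of the shape `x⁻¹ (b x b⁻¹)` generates a cyclically permuted triple. -/
theorem Triple.of_conj {b x : G} (hb : b ^ 3 = 1) (hne : x⁻¹ * (b * x * b⁻¹) ≠ 1)
    (hsq : x⁻¹ * (b * x * b⁻¹) * (x⁻¹ * (b * x * b⁻¹)) = 1) :
    ∃ z : Fin 3 → G, Triple b z ∧ z 0 = x⁻¹ * (b * x * b⁻¹) := by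
  set y := x⁻¹ * (b * x * b⁻¹) with hy
  obtain ⟨y1, h1⟩ : ∃ y1, b * y * b⁻¹ = y1 := ⟨_, rfl⟩
  obtain ⟨y2, h2⟩ : ∃ y2, b * y1 * b⁻¹ = y2 := ⟨_, rfl⟩
  have hb3 : b * b * b = 1 := by rw [← hb, pow_three, mul_assoc]
  have h3 : b * y2 * b⁻¹ = y := by
    have : b * y2 * b⁻¹ = (b * b * b) * y * (b * b * b)⁻¹ := by rw [← h2, ← h1]; group
    rw [this, hb3, inv_one, one_mul, mul_one]
  have hprod : y * y1 * y2 = 1 := by
    have : y * y1 * y2 = x⁻¹ * (b * b * b) * x * (b * b * b)⁻¹ := by
      rw [← h2, ← h1, hy]; group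
    rw [this, hb3, inv_one, mul_one, mul_one, inv_mul_cancel]
  have hcj : ∀ u : G, u * u = 1 → (b * u * b⁻¹) * (b * u * b⁻¹) = 1 := fun u hu => by
    rw [show b * u * b⁻¹ * (b * u * b⁻¹) = b * (u * u) * b⁻¹ by group, hu, mul_one, mul_inv_cancel]
  have hcm : ∀ u v w : G, u * v = w → (b * u * b⁻¹) * (b * v * b⁻¹) = b * w * b⁻¹ := fun u v w h => by
    rw [← h]; group
  have q1 : y1 * y1 = 1 := h1 ▸ hcj y hsq
  have q2 : y2 * y2 = 1 := h2 ▸ hcj y1 q1
  have m0 : y * y1 = y2 := mul_left_injective y2 (by simp only [hprod, q2])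
  have m1 : y1 * y2 = y := by have := hcm _ _ _ m0; rwa [h1, h2, h3] at this
  have m2 : y2 * y = y1 := by have := hcm _ _ _ m1; rwa [h2, h3, h1] at this
  have m0' : y1 * y = y2 := by
    rw [← m0]
    calc y1 * y = (y * y1)⁻¹ := by
          rw [mul_inv_rev, inv_eq_of_mul_eq_one_right q1, inv_eq_of_mul_eq_one_right hsq]
      _ = y * y1 := by rw [m0, inv_eq_of_mul_eq_one_right q2]
  have m1' : y2 * y1 = y := by have := hcm _ _ _ m0'; rwa [h1, h2, h3] at this
  have m2' : y * y2 = y1 := by have := hcm _ _ _ m1'; rwa [h2, h3, h1] at this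
  have c0 : Commute y y1 := m0.trans m0'.symm
  have c1 : Commute y1 y2 := m1.trans m1'.symm
  have c2 : Commute y2 y := m2.trans m2'.symm
  have n1 : y1 ≠ 1 := fun h => hne (conj_eq_one_iff.1 (h1.trans h))
  have n2 : y2 ≠ 1 := fun h => n1 (conj_eq_one_iff.1 (h2.trans h))
  refine ⟨![y, y1, y2], ⟨fun i => ?_, fun i => ?_, fun i j => ?_, fun i => ?_, fun i => ?_⟩, rfl⟩
  · fin_cases i
    · exact hsq
    · exact q1
    · exact q2
  · fin_cases i
    · exact m0
    · exact m1
    · exact m2
  · fin_cases i <;> fin_cases j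
    all_goals
      first
      | exact Commute.refl _
      | exact c0
      | exact c0.symm
      | exact c1
      | exact c1.symm
      | exact c2
      | exact c2.symm
  · fin_cases i
    · exact h1
    · exact h2
    · exact h3
  · fin_cases i
    · exact hne
    · exact n1
    · exact n2

variable {ρ : Representation (ZMod 3) G V}

theorem rep_mul (g h : G) (v : V) : ρ (g * h) v = ρ g (ρ h v) := by
  rw [map_mul, Module.End.mul_apply]

theorem rep_inv_self (g : G) (v : V) : ρ g⁻¹ (ρ g v) = v := by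
  rw [← rep_mul, inv_mul_cancel, map_one, Module.End.one_apply]

theorem rep_self_inv (g : G) (v : V) : ρ g (ρ g⁻¹ v) = v := by
  rw [← rep_mul, mul_inv_cancel, map_one, Module.End.one_apply]

theorem rep_inj (g : G) {u v : V} (h : ρ g u = ρ g v) : u = v := by
  have := congrArg (ρ g⁻¹) h
  rwa [rep_inv_self, rep_inv_self] at this

theorem four_smul (v : V) : v + v + v + v = v := by
  have h : ((3 : ℕ) : ZMod 3) • v = v + v + v := by
    rw [Nat.cast_smul_eq_nsmul, succ_nsmul, succ_nsmul, one_nsmul]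
  rw [show ((3 : ℕ) : ZMod 3) = 0 by decide, zero_smul] at h
  rw [← h, zero_add]

theorem three_smul (v : V) : v + v + v = 0 := by
  have h := four_smul v
  rwa [add_eq_right] at h

theorem neg_eq_self_iff (v : V) : -v = v ↔ v = 0 := by
  refine ⟨fun h => ?_, fun h => by simp [h]⟩
  have h3 := three_smul v
  have h2 : v + v = 0 := by nth_rewrite 1 [← h]; exact neg_add_cancel v
  rwa [h2, zero_add] at h3

/-- The vectors of a frame attached to a triple. -/
structure Frame (ρ : Representation (ZMod 3) G V) (b : G) (z : Fin 3 → G) (e : Fin 3 → V) : Prop where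
  ne : ∀ i, e i ≠ 0
  b_apply : ∀ i, ρ b (e i) = e (i + 1)
  z_self : ∀ i, ρ (z i) (e i) = e i
  z_other : ∀ i j, j ≠ i → ρ (z i) (e j) = -e j
  line : ∀ i v, ρ (z i) v = v → ρ (z (i + 1)) v = -v → ∃ c : ZMod 3, v = c • e i
  b_fix : ∀ v, (∀ i, ρ (z i) v = v) → ρ b v = v
  decomp : ∀ v, ∃ (v0 : V) (c : Fin 3 → ZMod 3), (∀ i, ρ (z i) v0 = v0) ∧
    v = v0 + c 0 • e 0 + c 1 • e 1 + c 2 • e 2

/-- Four times the component of `v` on the `i`-th line. -/
noncomputable def proj (ρ : Representation (ZMod 3) G V) (z : Fin 3 → G) (i : Fin 3) : V →ₗ[ZMod 3] V :=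
  1 + ρ (z i) - ρ (z (i + 1)) - ρ (z (i + 2))

theorem proj_apply (z : Fin 3 → G) (i : Fin 3) (v : V) :
    proj ρ z i v = v + ρ (z i) v - ρ (z (i + 1)) v - ρ (z (i + 2)) v := rfl

theorem proj_fixed {z : Fin 3 → G} {v : V} (hv : ∀ i, ρ (z i) v = v) (i : Fin 3) :
    proj ρ z i v = 0 := by
  rw [proj_apply, hv, hv, hv]; abel

theorem proj_mem {z : Fin 3 → G} {M : Submodule (ZMod 3) V}
    (hM : ∀ i, ∀ v ∈ M, ρ (z i) v ∈ M) {v : V} (hv : v ∈ M) (i : Fin 3) : proj ρ z i v ∈ M := by
  rw [proj_apply]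
  exact M.sub_mem (M.sub_mem (M.add_mem hv (hM _ v hv)) (hM _ v hv)) (hM _ v hv)

theorem Triple.exists_frame [Finite V] {b : G} {z : Fin 3 → G} (hz : Triple b z)
    (hJ : Jordan ρ b) (hρ : Function.Injective ρ) : ∃ e, Frame ρ b z e := by
  have hzz : ∀ i v, ρ (z i) (ρ (z i) v) = v := fun i v => by
    rw [← rep_mul, hz.sq, map_one, Module.End.one_apply]
  have hz1 : ∀ i v, ρ (z i) (ρ (z (i + 1)) v) = ρ (z (i + 2)) v := fun i v => by
    rw [← rep_mul, hz.mul]
  have hz2 : ∀ i v, ρ (z i) (ρ (z (i + 2)) v) = ρ (z (i + 1)) v := fun i v => by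
    rw [← rep_mul, hz.mul']
  have hz3 : ∀ i v, ρ (z (i + 1)) (ρ (z (i + 2)) v) = ρ (z i) v := fun i v => by
    rw [← rep_mul, show i + 2 = i + 1 + 1 by fin_cases i <;> rfl, hz.mul]
    congr 2
    fin_cases i <;> rfl
  have hz4 : ∀ i v, ρ (z (i + 1)) (ρ (z i) v) = ρ (z (i + 2)) v := fun i v => by
    rw [← rep_mul, (hz.comm (i + 1) i).eq, hz.mul]
  have hP1 : ∀ i v, ρ (z i) (proj ρ z i v) = proj ρ z i v := fun i v => by
    simp only [proj_apply, map_add, map_sub, hzz, hz1, hz2]; abel
  have hP2 : ∀ i v, ρ (z (i + 1)) (proj ρ z i v) = -proj ρ z i v := fun i v => by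
    simp only [proj_apply, map_add, map_sub, hzz, hz4, hz3]; abel
  -- `b` transports the lines
  have hb : ∀ i v, ρ b (ρ (z i) v) = ρ (z (i + 1)) (ρ b v) := fun i v => by
    rw [← rep_mul, ← rep_mul, ← hz.conj, inv_mul_cancel_right]
  let InE : Fin 3 → V → Prop := fun i v => ρ (z i) v = v ∧ ρ (z (i + 1)) v = -v
  have hE : ∀ i v, InE i v → InE (i + 1) (ρ b v) := fun i v h => by
    constructor
    · rw [← hb, h.1]
    · rw [← hb, h.2, map_neg]
  have hE3 : ∀ i v, InE i v → ρ (z (i + 2)) v = -v := fun i v h => by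
    rw [← hz1, h.2, map_neg, h.1]
  have hproj_self : ∀ i v, InE i v → proj ρ z i v = v := fun i v h => by
    rw [proj_apply, h.1, h.2, hE3 i v h, sub_neg_eq_add, sub_neg_eq_add]
    exact four_smul v
  have hproj_next : ∀ i v, InE (i + 1) v → proj ρ z i v = 0 := fun i v h => by
    have h3 := hE3 _ v h
    rw [show i + 1 + 2 = i by fin_cases i <;> rfl] at h3
    have h2 := h.2
    rw [show i + 1 + 1 = i + 2 by fin_cases i <;> rfl] at h2
    rw [proj_apply, h.1, h3, h2]; abel
  have hproj_prev : ∀ i v, InE (i + 2) v → proj ρ z i v = 0 := fun i v h => by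
    have h3 := hE3 _ v h
    rw [show i + 2 + 2 = i + 1 by fin_cases i <;> rfl] at h3
    have h2 := h.2
    rw [show i + 2 + 1 = i by fin_cases i <;> rfl] at h2
    rw [proj_apply, h.1, h3, h2]; abel
  -- each line has dimension at most one
  have hN2 : ∀ v, ((ρ b - 1 : Module.End (ZMod 3) V) ^ 2) v = v + ρ b v + ρ b (ρ b v) := fun v => by
    rw [pow_two, Module.End.mul_apply]
    simp only [LinearMap.sub_apply, Module.End.one_apply, map_sub]
    rw [← sub_eq_zero]
    calc _ = -(ρ b v + ρ b v + ρ b v) := by abel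
      _ = 0 := by rw [three_smul, neg_zero]
  have hproj_sq : ∀ i v, InE i v →
      proj ρ z i (((ρ b - 1 : Module.End (ZMod 3) V) ^ 2) v) = v := fun i v h => by
    rw [hN2, map_add, map_add, hproj_self i v h, hproj_next i _ (hE i v h)]
    have := hE _ _ (hE i v h)
    rw [show i + 1 + 1 = i + 2 by fin_cases i <;> rfl] at this
    rw [hproj_prev i _ this]; abel
  -- some line is nonzero
  obtain ⟨e0, he0, hne0⟩ : ∃ v, InE 0 v ∧ v ≠ 0 := by
    by_contra hcon
    push Not at hcon
    have hall : ∀ i v, InE i v → v = 0 := by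
      intro i v h
      have step : ∀ j, (∀ w, InE (j + 1) w → w = 0) → ∀ w, InE j w → w = 0 := fun j hj w hw =>
        rep_inj b (by rw [hj _ (hE j w hw), map_zero])
      have s2 : ∀ w, InE 2 w → w = 0 := step 2 hcon
      have s1 : ∀ w, InE 1 w → w = 0 := step 1 s2
      fin_cases i
      · exact hcon v h
      · exact s1 v h
      · exact s2 v h
    have hall' : ∀ i v, proj ρ z i v = 0 := fun i v => hall i _ ⟨hP1 i v, hP2 i v⟩
    refine hz.ne 0 (hρ (LinearMap.ext fun v => ?_))
    have e1 := hall' 1 v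
    have e2 := hall' 2 v
    rw [proj_apply] at e1 e2
    rw [map_one, Module.End.one_apply]
    simp only [show (1 : Fin 3) + 1 = 2 from rfl, show (1 : Fin 3) + 2 = 0 from rfl,
      show (2 : Fin 3) + 1 = 0 from rfl, show (2 : Fin 3) + 2 = 1 from rfl] at e1 e2
    -- the sum of the two projections is `2 v - 2 z₀ v`
    have h2 : (v - ρ (z 0) v) + (v - ρ (z 0) v) = 0 := by
      calc _ = (v + ρ (z 1) v - ρ (z 2) v - ρ (z 0) v) + (v + ρ (z 2) v - ρ (z 0) v - ρ (z 1) v) := by
            abel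
        _ = 0 := by rw [e1, e2, add_zero]
    have h3 := three_smul (v - ρ (z 0) v)
    rw [h2, zero_add, sub_eq_zero] at h3
    exact h3.symm
  obtain ⟨e, he_def⟩ : ∃ e : Fin 3 → V, e = ![e0, ρ b e0, ρ b (ρ b e0)] := ⟨_, rfl⟩
  have heE : ∀ i, InE i (e i) := by
    intro i
    fin_cases i
    · simpa [he_def] using he0
    · simpa [he_def] using hE 0 e0 he0
    · simpa [he_def] using hE 1 _ (hE 0 e0 he0)
  have hb3 : ∀ v, ρ b (ρ b (ρ b v)) = v := fun v => by
    rw [← rep_mul, ← rep_mul, show b * b * b = b ^ 3 by rw [pow_three, mul_assoc], hJ.cube, map_one,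
      Module.End.one_apply]
  have heb : ∀ i, ρ b (e i) = e (i + 1) := by
    intro i
    fin_cases i <;> simp [he_def, hb3]
  have hne : ∀ i, e i ≠ 0 := by
    intro i
    fin_cases i
    · simpa [he_def] using hne0
    · simp only [he_def]; exact fun h => hne0 (rep_inj b (h.trans (map_zero (ρ b)).symm))
    · simp only [he_def]
      exact fun h => hne0 (rep_inj b (rep_inj b (h.trans (by rw [map_zero, map_zero]))))
  have hoth : ∀ i j, j ≠ i → ρ (z i) (e j) = -e j := by
    intro i j hij
    have h : i = j + 1 ∨ i = j + 2 := by revert hij; revert i j; decide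
    rcases h with rfl | rfl
    · exact (heE j).2
    · exact hE3 j _ (heE j)
  have hline : ∀ i v, InE i v → ∃ c : ZMod 3, v = c • e i := by
    intro i v hv
    set N := ((ρ b - 1 : Module.End (ZMod 3) V) ^ 2) with hN
    have hle := hJ.rank₂
    have hmem : ∀ w, N w ∈ LinearMap.range N := fun w => LinearMap.mem_range_self N w
    have hNe : N (e i) ≠ 0 := fun h => hne i (by
      rw [← hproj_sq i _ (heE i), h, map_zero])
    have hspan : LinearMap.range N ≤ Submodule.span (ZMod 3) {N (e i)} := by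
      refine le_of_eq (Submodule.eq_of_le_of_finrank_le ?_ ?_).symm
      · exact (Submodule.span_singleton_le_iff_mem _ _).2 (hmem _)
      · rw [finrank_span_singleton hNe]; exact hle
    obtain ⟨c, hc⟩ := Submodule.mem_span_singleton.1 (hspan (hmem v))
    refine ⟨c, ?_⟩
    rw [← hproj_sq i v hv, ← hc, map_smul, hproj_sq i _ (heE i)]
  refine ⟨e, hne, heb, fun i => (heE i).1, hoth, fun i v h1 h2 => hline i v ⟨h1, h2⟩, ?_, ?_⟩
  · intro v hv
    -- the range of `b - 1` is spanned by two differences of frame vectors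
    set N := (ρ b - 1 : Module.End (ZMod 3) V) with hN
    have hNa : ∀ w, N w = ρ b w - w := fun w => rfl
    have hmem : ∀ w, N w ∈ LinearMap.range N := fun w => LinearMap.mem_range_self N w
    have hli : LinearIndependent (ZMod 3) ![N (e 0), N (e 1)] := by
      rw [LinearIndependent.pair_iff]
      intro s t hst
      rw [hNa, hNa, heb, heb] at hst
      have p0 := congrArg (proj ρ z 0) hst
      have p2 := congrArg (proj ρ z 2) hst
      simp only [map_add, map_smul, map_sub, map_zero,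
        show (0 : Fin 3) + 1 = 1 from rfl, show (1 : Fin 3) + 1 = 2 from rfl] at p0 p2
      rw [hproj_self 0 _ (heE 0), hproj_next 0 _ (heE 1), hproj_prev 0 _ (heE 2)] at p0
      rw [hproj_next 2 _ (heE 0), hproj_prev 2 _ (heE 1), hproj_self 2 _ (heE 2)] at p2
      simp only [sub_zero, zero_sub, smul_zero, smul_neg, add_zero, zero_add, sub_self,
        neg_eq_zero] at p0 p2
      exact ⟨(smul_eq_zero.1 p0).resolve_right (hne 0), (smul_eq_zero.1 p2).resolve_right (hne 2)⟩
    have hspan : LinearMap.range N ≤ Submodule.span (ZMod 3) (Set.range ![N (e 0), N (e 1)]) := by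
      refine le_of_eq (Submodule.eq_of_le_of_finrank_le ?_ ?_).symm
      · rw [Submodule.span_le]
        rintro _ ⟨i, rfl⟩
        fin_cases i <;> exact hmem _
      · rw [finrank_span_eq_card hli]; exact hJ.rank₁
    have h := hspan (hmem v)
    rw [Submodule.mem_span_range_iff_exists_fun] at h
    obtain ⟨c, hc⟩ := h
    simp only [Fin.sum_univ_two, Matrix.cons_val_zero, Matrix.cons_val_one] at hc
    rw [hNa v, hNa, hNa, heb, heb] at hc
    -- apply the projections
    have hfix : ∀ i, proj ρ z i (ρ b v - v) = 0 := fun i => by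
      refine proj_fixed (fun j => ?_) i
      have := hb (j + 2) v
      rw [hv, show j + 2 + 1 = j by fin_cases j <;> rfl] at this
      rw [map_sub, ← this, hv]
    have p0 := (congrArg (proj ρ z 0) hc).trans (hfix 0)
    have p2 := (congrArg (proj ρ z 2) hc).trans (hfix 2)
    simp only [map_add, map_smul, map_sub,
        show (0 : Fin 3) + 1 = 1 from rfl, show (1 : Fin 3) + 1 = 2 from rfl] at p0 p2
    rw [hproj_self 0 _ (heE 0), hproj_next 0 _ (heE 1), hproj_prev 0 _ (heE 2)] at p0
    rw [hproj_next 2 _ (heE 0), hproj_prev 2 _ (heE 1), hproj_self 2 _ (heE 2)] at p2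
    simp only [sub_zero, zero_sub, smul_zero, smul_neg, add_zero, zero_add, sub_self,
      neg_eq_zero] at p0 p2
    rw [(smul_eq_zero.1 p0).resolve_right (hne 0), (smul_eq_zero.1 p2).resolve_right (hne 2),
      zero_smul, zero_smul, add_zero, eq_comm, sub_eq_zero] at hc
    exact hc
  · intro v
    choose c hc using fun i => hline i (proj ρ z i v) ⟨hP1 i v, hP2 i v⟩
    refine ⟨v + ρ (z 0) v + ρ (z 1) v + ρ (z 2) v, c, ?_, ?_⟩
    · intro i
      have a0 := hz1 0 v; have b0 := hz2 0 v; have a1 := hz1 1 v; have b1 := hz2 1 v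
      have a2 := hz1 2 v; have b2 := hz2 2 v
      simp only [show (0 : Fin 3) + 1 = 1 from rfl, show (0 : Fin 3) + 2 = 2 from rfl,
        show (1 : Fin 3) + 1 = 2 from rfl, show (1 : Fin 3) + 2 = 0 from rfl,
        show (2 : Fin 3) + 1 = 0 from rfl, show (2 : Fin 3) + 2 = 1 from rfl] at a0 b0 a1 b1 a2 b2
      fin_cases i
      all_goals
        simp only [map_add, hzz, Fin.isValue, Fin.zero_eta, Fin.mk_one, Fin.reduceFinMk, a0, b0,
          a1, b1, a2, b2]
        abel
    · rw [← hc 0, ← hc 1, ← hc 2, proj_apply, proj_apply, proj_apply]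
      simp only [show (0 : Fin 3) + 1 = 1 from rfl, show (0 : Fin 3) + 2 = 2 from rfl,
        show (1 : Fin 3) + 1 = 2 from rfl, show (1 : Fin 3) + 2 = 0 from rfl,
        show (2 : Fin 3) + 1 = 0 from rfl, show (2 : Fin 3) + 2 = 1 from rfl]
      calc v = v + v + v + v := (four_smul v).symm
        _ = _ := by abel

/-- An element whose order is a prime at least five acts trivially on an invariant plane. -/
theorem fixed_of_small [Finite V] [Finite G] {q : ℕ} (hq : q.Prime) (hq5 : 5 ≤ q) {x : G}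
    (hx : x ^ q = 1) {W : Submodule (ZMod 3) V} (hW : ∀ v ∈ W, ρ x v ∈ W)
    (hdim : Module.finrank (ZMod 3) W ≤ 2) : ∀ v ∈ W, ρ x v = v := by
  haveI := Fact.mk hq
  have hP : IsPGroup q (Subgroup.zpowers x) := fun g => ⟨1, by
    obtain ⟨g, hg⟩ := g
    obtain ⟨k, rfl⟩ := Subgroup.mem_zpowers_iff.1 hg
    refine Subtype.ext ?_
    rw [SubgroupClass.coe_pow, OneMemClass.coe_one, pow_one, ← zpow_natCast, zpow_comm,
      zpow_natCast, hx, one_zpow]⟩
  have hinv : ∀ g ∈ Subgroup.zpowers x, ∀ v ∈ W, ρ g v ∈ W := by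
    intro g hg
    obtain ⟨i, rfl⟩ := mem_powers_iff_mem_zpowers.2 hg
    simp only
    clear hg
    induction i with
    | zero => intro v hv; rwa [pow_zero, map_one, Module.End.one_apply]
    | succ i ih => intro v hv; rw [pow_succ', rep_mul]; exact hW _ (ih v hv)
  letI : MulAction (Subgroup.zpowers x) W :=
    { smul := fun g w => ⟨ρ (g : G) w, hinv g g.2 w w.2⟩
      one_smul := fun w => Subtype.ext (by
        change ρ ((1 : Subgroup.zpowers x) : G) (w : V) = w
        rw [OneMemClass.coe_one, map_one, Module.End.one_apply])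
      mul_smul := fun g h w => Subtype.ext (rep_mul _ _ _) }
  let F : Submodule (ZMod 3) W := LinearMap.ker ((ρ x - 1).comp W.subtype)
  have hF : MulAction.fixedPoints (Subgroup.zpowers x) W = (F : Set W) := by
    ext w
    rw [SetLike.mem_coe, LinearMap.mem_ker, LinearMap.comp_apply, LinearMap.sub_apply,
      Module.End.one_apply, sub_eq_zero, Submodule.coe_subtype]
    refine ⟨fun h => congrArg Subtype.val (h ⟨x, Subgroup.mem_zpowers x⟩), fun h g => Subtype.ext ?_⟩
    obtain ⟨g, hg⟩ := g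
    obtain ⟨i, rfl⟩ := mem_powers_iff_mem_zpowers.2 hg
    change ρ (x ^ i) (w : V) = w
    clear hg
    induction i with
    | zero => rw [pow_zero, map_one, Module.End.one_apply]
    | succ i ih => rw [pow_succ, rep_mul, h, ih]
  have hmod := hP.card_modEq_card_fixedPoints W
  rw [Nat.card_congr (Equiv.setCongr hF), SetLike.coe_sort_coe,
    Module.natCard_eq_pow_finrank (K := ZMod 3) (V := W),
    Module.natCard_eq_pow_finrank (K := ZMod 3) (V := F), Nat.card_zmod] at hmod
  have hle := Submodule.finrank_le F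
  intro v hv
  by_contra hne
  have hlt : Module.finrank (ZMod 3) F < Module.finrank (ZMod 3) W := by
    refine lt_of_le_of_ne hle fun h => hne ?_
    have := Submodule.eq_top_of_finrank_eq h
    have hm : (⟨v, hv⟩ : W) ∈ F := this ▸ Submodule.mem_top
    simpa [F, sub_eq_zero] using hm
  have hdvd := (Nat.modEq_iff_dvd' (Nat.pow_le_pow_right (by norm_num) hle)).1 hmod.symm
  obtain ⟨a, ha⟩ : ∃ a, a = Module.finrank (ZMod 3) F := ⟨_, rfl⟩
  obtain ⟨c, hc⟩ : ∃ c, c = Module.finrank (ZMod 3) W := ⟨_, rfl⟩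
  rw [← ha, ← hc] at hdvd hlt
  rw [← hc] at hdim
  have h6 : q ∣ 2 * 2 * 2 * 3 := by
    interval_cases c <;> interval_cases a <;> norm_num at hdvd ⊢ <;>
      exact hdvd.trans (by norm_num)
  rcases (Nat.Prime.dvd_mul hq).1 h6 with h | h
  · rcases (Nat.Prime.dvd_mul hq).1 h with h | h
    · rcases (Nat.Prime.dvd_mul hq).1 h with h | h <;> exact absurd (Nat.le_of_dvd (by norm_num) h) (by omega)
    · exact absurd (Nat.le_of_dvd (by norm_num) h) (by omega)
  · exact absurd (Nat.le_of_dvd (by norm_num) h) (by omega)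

/-- A three-group of linear maps in characteristic three fixes a nonzero vector. -/
theorem exists_fixed_of_isPGroup [Finite V] [Finite G] [Nontrivial V] {K : Subgroup G}
    (hK : IsPGroup 3 K) : ∃ v : V, v ≠ 0 ∧ ∀ g ∈ K, ρ g v = v := by
  letI : MulAction K V := MulAction.compHom V (ρ.comp K.subtype : K →* Module.End (ZMod 3) V)
  have h3 : 3 ∣ Nat.card V := by
    rw [Module.natCard_eq_pow_finrank (K := ZMod 3), Nat.card_zmod]
    exact dvd_pow_self 3 Module.finrank_pos.ne'
  obtain ⟨v, hv, hne⟩ := hK.exists_fixed_point_of_prime_dvd_card_of_fixed_point V h3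
    (a := (0 : V)) (fun g => map_zero (ρ (g : G)))
  exact ⟨v, hne.symm, fun g hg => hv ⟨g, hg⟩⟩

/-- Fixed point count for a `p`-element normalising a subgroup. -/
theorem card_modEq_inf_centralizer [Finite G] {p : ℕ} [Fact p.Prime] {x : G}
    (hx : IsPGroup p (Subgroup.zpowers x)) {M : Subgroup G}
    (hM : x ∈ Subgroup.normalizer (M : Set G)) :
    Nat.card M ≡ Nat.card ↥(M ⊓ Subgroup.centralizer ({x} : Set G)) [MOD p] := by
  have hle : Subgroup.zpowers x ≤ Subgroup.normalizer (M : Set G) := by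
    rwa [Subgroup.zpowers_le]
  letI : MulAction (Subgroup.zpowers x) M :=
    MulAction.compHom M (M.normalizerMonoidHom.comp (Subgroup.inclusion hle))
  have hsmul : ∀ (g : Subgroup.zpowers x) (m : M), ((g • m : M) : G) = g * m * (g : G)⁻¹ :=
    fun g m => rfl
  refine (hx.card_modEq_card_fixedPoints M).trans ?_
  rw [Nat.card_congr (?_ : MulAction.fixedPoints (Subgroup.zpowers x) M ≃
    ↥(M ⊓ Subgroup.centralizer ({x} : Set G)))]
  exact
    { toFun := fun m => ⟨m.1, m.1.2, Subgroup.mem_centralizer_singleton_iff.2 (by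
        have h := congrArg Subtype.val (m.2 ⟨x, Subgroup.mem_zpowers x⟩)
        rw [hsmul] at h
        exact (eq_mul_inv_iff_mul_eq.1 h.symm))⟩
      invFun := fun m => ⟨⟨m.1, m.2.1⟩, fun g => Subtype.ext (by
        rw [hsmul]
        obtain ⟨i, hi⟩ := Subgroup.mem_zpowers_iff.1 g.2
        have hc : Commute (m : G) x := Subgroup.mem_centralizer_singleton_iff.1 m.2.2
        rw [← hi, (hc.zpow_right i).symm.eq, mul_inv_cancel_right])⟩
      left_inv := fun m => rfl
      right_inv := fun m => rfl }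

end CfsgLib.SolvStruct.JordanThree
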