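import Cfsg.Agent.Lib.SolvStruct.JordanThree.Basics
import Cfsg.Agent.Lib.Base.MinimalNormal
import Cfsg.Prelude.Def_Transfer

/-!
# Irreducible groups generated by a `3'`-group and a cubic Jordan element

The group has a normal elementary abelian two-subgroup that is not made of scalars.
-/

set_option autoImplicit false
set_option linter.style.haveILetI false

namespace CfsgLib.SolvStruct.JordanThree

variable {H : Type*} [Group H] {V : Type*} [AddCommGroup V] [Module (ZMod 3) V]
  {ρ : Representation (ZMod 3) H V}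

/-- The standing hypotheses for the irreducible case. -/
structure Core (ρ : Representation (ZMod 3) H V) (b : H) (R : Subgroup H) : Prop where
  solvable : Group.IsSolvable H
  inj : Function.Injective ρ
  irred : ∀ M : Submodule (ZMod 3) V, (∀ g, ∀ v ∈ M, ρ g v ∈ M) → M = ⊥ ∨ M = ⊤
  jordan : Jordan ρ b
  normal : R.Normal
  coprime : ¬ 3 ∣ Nat.card R
  comm : ⁅R, Subgroup.zpowers b⁆ = R
  gen : ∀ g, ∃ r ∈ R, ∃ k : ℕ, g = r * b ^ k
  triple : ∃ z, Triple b z ∧ ∀ i, z i ∈ R

/-- `g` acts as `1` or as `-1`. -/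
def Scalar (ρ : Representation (ZMod 3) H V) (g : H) : Prop := ρ g = 1 ∨ ρ g = -1

theorem Scalar.one : Scalar ρ 1 := Or.inl (map_one ρ)

theorem Scalar.mul {g h : H} (hg : Scalar ρ g) (hh : Scalar ρ h) : Scalar ρ (g * h) := by
  unfold Scalar at *
  rw [map_mul]
  rcases hg with hg | hg <;> rcases hh with hh | hh <;> simp [hg, hh]

theorem Scalar.commute (hρ : Function.Injective ρ) {g : H} (hg : Scalar ρ g) (h : H) :
    Commute g h := by
  refine hρ ?_
  rw [map_mul, map_mul]
  rcases hg with hg | hg <;> rw [hg] <;> simp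

theorem Scalar.sq (hρ : Function.Injective ρ) {g : H} (hg : Scalar ρ g) : g * g = 1 := by
  refine hρ ?_
  rw [map_mul, map_one]
  rcases hg with hg | hg <;> rw [hg] <;> simp

theorem Scalar.inv (hρ : Function.Injective ρ) {g : H} (hg : Scalar ρ g) : Scalar ρ g⁻¹ := by
  rwa [inv_eq_of_mul_eq_one_right (hg.sq hρ)]

/-- The subgroup of elements acting as `1` or `-1`. -/
def signs (ρ : Representation (ZMod 3) H V) (hρ : Function.Injective ρ) : Subgroup H where
  carrier := {g | Scalar ρ g}
  one_mem' := Scalar.one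
  mul_mem' := Scalar.mul
  inv_mem' := Scalar.inv hρ

namespace Core

variable {b : H} {R : Subgroup H}

theorem nontrivial (hc : Core ρ b R) : Nontrivial V := by
  by_contra h
  rw [not_nontrivial_iff_subsingleton] at h
  obtain ⟨z, hz, -⟩ := hc.triple
  exact hz.ne 0 (hc.inj (LinearMap.ext fun v => Subsingleton.elim _ _))

theorem eq_zero_of_fixed (hc : Core ρ b R) {K : Subgroup H} [K.Normal] (hK : K ≠ ⊥) {v : V}
    (hv : ∀ g ∈ K, ρ g v = v) : v = 0 := by
  let M : Submodule (ZMod 3) V :=
    { carrier := {v | ∀ g ∈ K, ρ g v = v}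
      add_mem' := fun {u w} hu hw g hg => by rw [map_add, hu g hg, hw g hg]
      zero_mem' := fun g _ => map_zero _
      smul_mem' := fun c u hu g hg => by rw [map_smul, hu g hg] }
  have hM : ∀ g, ∀ v ∈ M, ρ g v ∈ M := fun g v hv k hk => by
    have h := hv (g⁻¹ * k * g) (by
      simpa using (inferInstance : K.Normal).conj_mem k hk g⁻¹)
    rw [rep_mul, rep_mul] at h
    have h' := congrArg (ρ g) h
    rwa [rep_self_inv] at h'
  rcases hc.irred M hM with h | h
  · have : v ∈ M := hv
    rwa [h, Submodule.mem_bot] at this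
  · refine absurd ((Subgroup.eq_bot_iff_forall _).2 fun k hk => hc.inj ?_) hK
    refine LinearMap.ext fun w => ?_
    have : w ∈ M := h ▸ Submodule.mem_top
    rw [this k hk, map_one, Module.End.one_apply]

theorem eq_bot_of_isPGroup_three [Finite H] [Finite V] (hc : Core ρ b R) {K : Subgroup H} [K.Normal]
    (hK : IsPGroup 3 K) : K = ⊥ := by
  by_contra hne
  haveI := hc.nontrivial
  obtain ⟨v, hv, hfix⟩ := exists_fixed_of_isPGroup (ρ := ρ) hK
  exact hv (hc.eq_zero_of_fixed hne hfix)

theorem le_centralizer_of_commute (hc : Core ρ b R) {A : Subgroup H} [A.Normal]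
    (hA : b ∈ Subgroup.centralizer (A : Set H)) : R ≤ Subgroup.centralizer (A : Set H) := by
  rw [← hc.comm]
  exact (Subgroup.commutator_mono le_rfl (by rwa [Subgroup.zpowers_le])).trans
    (Subgroup.commutator_le_right R (Subgroup.centralizer (A : Set H)))

theorem le_center_of_commute (hc : Core ρ b R) {A : Subgroup H} [A.Normal]
    (hA : b ∈ Subgroup.centralizer (A : Set H)) : A ≤ Subgroup.center H := by
  intro a ha
  rw [Subgroup.mem_center_iff]
  intro g
  obtain ⟨r, hr, k, rfl⟩ := hc.gen g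
  exact ((Subgroup.mem_centralizer_iff.1
    (mul_mem (hc.le_centralizer_of_commute hA hr) (pow_mem hA k)) a ha)).symm

theorem eq_one_of_conj_eq (hc : Core ρ b R) {x s : H} (hs : Scalar ρ s)
    (h : b * x * b⁻¹ = x * s) : s = 1 := by
  have hb3 : b * b * b = 1 := by rw [← hc.jordan.cube, pow_three, mul_assoc]
  have hbs : b * s * b⁻¹ = s := by rw [← (hs.commute hc.inj b).eq, mul_inv_cancel_right]
  have hx : MulAut.conj b x = x * s := h
  have hs' : MulAut.conj b s = s := hbs
  have h3 : (b * b * b) * x * (b * b * b)⁻¹ = x * (s * s * s) := by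
    calc _ = MulAut.conj b (MulAut.conj b (MulAut.conj b x)) := by
          simp only [MulAut.conj_apply]; group
      _ = x * (s * s * s) := by simp only [hx, hs', map_mul]; simp only [mul_assoc]
  rwa [hb3, hs.sq hc.inj, one_mul, one_mul, inv_one, mul_one, eq_comm, mul_eq_left] at h3

/-- No normal elementary abelian `q`-subgroup for a prime `q ≥ 5`. -/
theorem eq_bot_of_elementary [Finite H] [Finite V] (hc : Core ρ b R) {q : ℕ} (hq : q.Prime)
    (hq5 : 5 ≤ q) {A : Subgroup H} [A.Normal] [IsMulCommutative A] (hA : ∀ x ∈ A, x ^ q = 1) :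
    A = ⊥ := by
  by_contra hne
  obtain ⟨z, hz, hzR⟩ := hc.triple
  obtain ⟨e, he⟩ := hz.exists_frame hc.jordan hc.inj
  have hodd : Odd q := hq.odd_of_ne_two (by omega)
  have hcm : ∀ a ∈ A, ∀ c ∈ A, Commute a c := fun a ha c hc' =>
    congrArg Subtype.val (IsMulCommutative.is_comm.comm (⟨a, ha⟩ : A) ⟨c, hc'⟩)
  have hAz : ∀ i, ∀ a ∈ A, z i * a * z i ∈ A := fun i a ha => by
    have := (inferInstance : A.Normal).conj_mem a ha (z i)
    rwa [inv_eq_of_mul_eq_one_right (hz.sq i)] at this
  have hrepzz : ∀ i v, ρ (z i) (ρ (z i) v) = v := fun i v => by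
    rw [← rep_mul, hz.sq, map_one, Module.End.one_apply]
  by_cases hcent : ∀ a ∈ A, ∀ i, Commute a (z i)
  · refine he.ne 0 (hc.eq_zero_of_fixed hne fun a ha => ?_)
    obtain ⟨c, hce⟩ := he.line 0 (ρ a (e 0))
      (by rw [← rep_mul, ← (hcent a ha 0).eq, rep_mul, he.z_self])
      (by rw [← rep_mul, ← (hcent a ha _).eq, rep_mul, he.z_other _ _ (by decide), map_neg])
    have hpow : ∀ n : ℕ, ρ (a ^ n) (e 0) = c ^ n • e 0 := by
      intro n
      induction n with
      | zero => rw [pow_zero, pow_zero, map_one, Module.End.one_apply, one_smul]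
      | succ n ih => rw [pow_succ, rep_mul, hce, map_smul, ih, smul_smul, ← pow_succ']
    have h1 := hpow q
    rw [hA a ha, map_one, Module.End.one_apply] at h1
    have h1' : (c ^ q - 1) • e 0 = 0 := by rw [sub_smul, one_smul, ← h1, sub_self]
    have hcq := (smul_eq_zero.1 h1').resolve_right (he.ne 0)
    rw [hce]
    rcases (show ∀ d : ZMod 3, d = 0 ∨ d = 1 ∨ d = -1 by decide) c with rfl | rfl | rfl
    · rw [zero_pow hq.ne_zero] at hcq; exact absurd hcq (by decide)
    · rw [one_smul]
    · rw [hodd.neg_one_pow] at hcq; exact absurd hcq (by decide)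
  · push Not at hcent
    obtain ⟨x0, hx0, m, hm⟩ := hcent
    -- some `x ≠ 1` is centralised by `z k` and inverted by `z (k + 1)`
    obtain ⟨x, hx, hx1, k, hk, hk1⟩ : ∃ x ∈ A, x ≠ 1 ∧ ∃ k, z k * x * z k = x ∧
        z (k + 1) * x * z (k + 1) = x⁻¹ := by
      set y := x0⁻¹ * (z m * x0 * z m) with hy
      have hyA : y ∈ A := mul_mem (inv_mem hx0) (hAz m x0 hx0)
      have hy1 : y ≠ 1 := fun h => hm (by
        rw [hy, inv_mul_eq_one] at h
        calc x0 * z m = z m * x0 * z m * z m := by rw [← h]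
          _ = z m * x0 := by rw [mul_assoc _ (z m) (z m), hz.sq, mul_one])
      have hinv : ∀ i a, z i * a⁻¹ * z i = (z i * a * z i)⁻¹ := fun i a => by
        rw [mul_inv_rev, mul_inv_rev, inv_eq_of_mul_eq_one_right (hz.sq i), mul_assoc]
      have hmul : ∀ i a c, z i * (a * c) * z i = z i * a * z i * (z i * c * z i) := fun i a c => by
        calc _ = z i * a * (z i * z i) * (c * z i) := by rw [hz.sq, mul_one]; group
          _ = _ := by group
      have hinvol : ∀ i a, z i * (z i * a * z i) * z i = a := fun i a => by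
        calc _ = (z i * z i) * a * (z i * z i) := by group
          _ = a := by rw [hz.sq, one_mul, mul_one]
      have hym : z m * y * z m = y⁻¹ := by
        rw [hy, hmul, hinv, hinvol]; group
      have hcomp : ∀ i a, z i * (z (i + 1) * a * z (i + 1)) * z i =
          z (i + 2) * a * z (i + 2) := fun i a => by
        calc _ = z i * z (i + 1) * a * (z (i + 1) * z i) := by group
          _ = _ := by rw [hz.mul, (hz.comm (i + 1) i).eq, hz.mul]
      set u := y * (z (m + 1) * y * z (m + 1)) with hu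
      have huA : u ∈ A := mul_mem hyA (hAz _ y hyA)
      by_cases hu1 : u = 1
      · have h1 : z (m + 1) * y * z (m + 1) = y⁻¹ := (inv_eq_of_mul_eq_one_right hu1).symm
        refine ⟨y, hyA, hy1, m + 2, ?_, ?_⟩
        · rw [← hcomp, h1, hinv, hym, inv_inv]
        · rw [show m + 2 + 1 = m by fin_cases m <;> rfl]; exact hym
      · have hu2 : z (m + 1) * u * z (m + 1) = u := by
          rw [hu, hmul, hinvol]
          exact (hcm _ (hAz _ y hyA) _ hyA).eq
        have hum : z m * u * z m = u⁻¹ := by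
          have hcomp' : z (m + 1) * (z m * y * z m) * z (m + 1) = z (m + 2) * y * z (m + 2) := by
            calc _ = z (m + 1) * z m * y * (z m * z (m + 1)) := by group
              _ = _ := by rw [(hz.comm (m + 1) m).eq, hz.mul]
          rw [hym, hinv] at hcomp'
          rw [hu, hmul, hym, hcomp, ← hcomp', ← mul_inv_rev]
          exact congrArg _ (hcm _ (hAz _ y hyA) _ hyA).eq
        refine ⟨u, huA, hu1, m + 1, hu2, ?_⟩
        rw [show m + 1 + 1 = m + 2 by fin_cases m <;> rfl, ← hcomp m u, hu2, hum]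
    have hk2 : z (k + 2) * x * z (k + 2) = x⁻¹ := by
      calc _ = z k * (z (k + 1) * x * z (k + 1)) * z k := by
            rw [← hz.mul, show z k * (z (k + 1) * x * z (k + 1)) * z k =
              z k * z (k + 1) * x * (z (k + 1) * z k) by group, (hz.comm (k + 1) k).eq]
        _ = _ := by
            rw [hk1, show z k * x⁻¹ * z k = (z k * x * z k)⁻¹ by
              rw [mul_inv_rev, mul_inv_rev, inv_eq_of_mul_eq_one_right (hz.sq k), mul_assoc], hk]
    have hxc : ∀ v, ρ (z k) (ρ x v) = ρ x (ρ (z k) v) := fun v => by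
      rw [← rep_mul, ← rep_mul]
      congr 2
      calc z k * x = z k * x * z k * z k := by rw [mul_assoc _ (z k) (z k), hz.sq, mul_one]
        _ = x * z k := by rw [hk]
    -- the plane inverted by `z k`
    let Wm : Submodule (ZMod 3) V :=
      { carrier := {v | ρ (z k) v = -v}
        add_mem' := fun {u w} hu hw => by
          change ρ (z k) (u + w) = -(u + w); rw [map_add, hu, hw, neg_add]
        zero_mem' := by change ρ (z k) 0 = -0; rw [map_zero, neg_zero]
        smul_mem' := fun c u hu => by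
          change ρ (z k) (c • u) = -(c • u); rw [map_smul, hu, smul_neg] }
    have hcoef : ∀ v, ∃ (v0 : V) (c : Fin 3 → ZMod 3), (∀ i, ρ (z i) v0 = v0) ∧
        v = v0 + c k • e k + c (k + 1) • e (k + 1) + c (k + 2) • e (k + 2) := fun v => by
      obtain ⟨v0, c, h0, hv⟩ := he.decomp v
      refine ⟨v0, c, h0, hv.trans ?_⟩
      fin_cases k
      · rfl
      · change _ = v0 + c 1 • e 1 + c 2 • e 2 + c 0 • e 0; abel
      · change _ = v0 + c 2 • e 2 + c 0 • e 0 + c 1 • e 1; abel
    have hz1k : ρ (z k) (e (k + 1)) = -e (k + 1) := he.z_other _ _ (by fin_cases k <;> decide)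
    have hz2k : ρ (z k) (e (k + 2)) = -e (k + 2) := he.z_other _ _ (by fin_cases k <;> decide)
    have hWm : Wm ≤ Submodule.span (ZMod 3) (Set.range ![e (k + 1), e (k + 2)]) := by
      intro v hv
      obtain ⟨v0, c, h0, hd⟩ := hcoef v
      have hv' : ρ (z k) v = -v := hv
      have h2 : (v0 + c k • e k) + (v0 + c k • e k) = 0 := by
        rw [hd] at hv'
        simp only [map_add, map_smul, h0, he.z_self, hz1k, hz2k, smul_neg] at hv'
        rw [← sub_eq_zero] at hv'
        calc _ = _ := by abel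
          _ = 0 := hv'
      have h3 := three_smul (v0 + c k • e k)
      rw [h2, zero_add] at h3
      rw [hd, h3, zero_add]
      exact add_mem (Submodule.smul_mem _ _ (Submodule.subset_span ⟨0, rfl⟩))
        (Submodule.smul_mem _ _ (Submodule.subset_span ⟨1, rfl⟩))
    have hfm : ∀ v ∈ Wm, ρ x v = v := by
      refine fixed_of_small hq hq5 (hA x hx) (fun v hv => ?_) ?_
      · have hv' : ρ (z k) v = -v := hv
        change ρ (z k) (ρ x v) = -ρ x v
        rw [hxc, hv', map_neg]
      · exact (Submodule.finrank_mono hWm).trans (finrank_range_le_card _)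
    -- `x * x - 1` maps into a plane inside the fixed space of `z k`
    have hxx : x * x = x * z (k + 1) * x⁻¹ * z (k + 1) := by
      calc x * x = x * (z (k + 1) * x * z (k + 1))⁻¹ := by rw [hk1, inv_inv]
        _ = _ := by
            rw [mul_inv_rev, mul_inv_rev, inv_eq_of_mul_eq_one_right (hz.sq (k + 1))]; group
    let S2 : Submodule (ZMod 3) V := Submodule.span (ZMod 3) (Set.range ![e k, e (k + 2)])
    have hS2 : ∀ v, ρ (z (k + 1)) v - v ∈ S2 := by
      intro v
      obtain ⟨v0, c, h0, hd⟩ := hcoef v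
      rw [hd]
      simp only [map_add, map_smul, h0, he.z_self]
      rw [he.z_other (k + 1) k (by fin_cases k <;> decide),
        he.z_other (k + 1) (k + 2) (by fin_cases k <;> decide)]
      have h1 : e k ∈ S2 := Submodule.subset_span ⟨0, rfl⟩
      have h2 : e (k + 2) ∈ S2 := Submodule.subset_span ⟨1, rfl⟩
      convert S2.sub_mem (S2.zero_mem)
        (S2.add_mem (S2.smul_mem (c k + c k) h1) (S2.smul_mem (c (k + 2) + c (k + 2)) h2)) using 1
      simp only [smul_neg, add_smul]
      abel
    let W := Submodule.span (ZMod 3) (Set.range ![e k, ρ x (e k)])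
    have hekW : e k ∈ W := Submodule.subset_span ⟨0, rfl⟩
    have hxkW : ρ x (e k) ∈ W := Submodule.subset_span ⟨1, rfl⟩
    have hWfix : ∀ v ∈ W, ρ (z k) v = v := by
      intro v hv
      refine Submodule.span_induction ?_ (map_zero _) (fun u w _ _ hu hw => by rw [map_add, hu, hw])
        (fun c u _ hu => by rw [map_smul, hu]) hv
      rintro _ ⟨i, rfl⟩
      fin_cases i
      · exact he.z_self k
      · change ρ (z k) (ρ x (e k)) = ρ x (e k); rw [hxc, he.z_self]
    have he2fix : ρ x (e (k + 2)) = e (k + 2) := hfm _ hz2k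
    have hrange : ∀ v, ρ (x * x) v - v ∈ W := by
      intro v
      have hW2 : S2 ≤ W ⊔ Submodule.span (ZMod 3) {e (k + 2)} := by
        rw [Submodule.span_le]
        rintro _ ⟨i, rfl⟩
        fin_cases i
        · exact Submodule.mem_sup_left hekW
        · exact Submodule.mem_sup_right (Submodule.mem_span_singleton_self _)
      have hxS : ∀ w ∈ S2, ρ x w ∈ W ⊔ Submodule.span (ZMod 3) {e (k + 2)} := by
        intro w hw
        refine Submodule.span_induction ?_ (by rw [map_zero]; exact zero_mem _)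
          (fun u w _ _ hu hw => by rw [map_add]; exact add_mem hu hw)
          (fun c u _ hu => by rw [map_smul]; exact Submodule.smul_mem _ c hu) hw
        rintro _ ⟨i, rfl⟩
        fin_cases i
        · exact Submodule.mem_sup_left hxkW
        · change ρ x (e (k + 2)) ∈ _
          rw [he2fix]; exact Submodule.mem_sup_right (Submodule.mem_span_singleton_self _)
      have hmem : ρ (x * x) v - v ∈ W ⊔ Submodule.span (ZMod 3) {e (k + 2)} := by
        have h1 := hxS _ (hS2 (ρ x⁻¹ (ρ (z (k + 1)) v)))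
        have h2 := hW2 (hS2 v)
        have heq : ρ (x * x) v - v = ρ x (ρ (z (k + 1)) (ρ x⁻¹ (ρ (z (k + 1)) v)) -
            ρ x⁻¹ (ρ (z (k + 1)) v)) + (ρ (z (k + 1)) v - v) := by
          rw [hxx, rep_mul, rep_mul, rep_mul, map_sub, rep_self_inv]; abel
        rw [heq]; exact add_mem h1 h2
      have hfix : ρ (z k) (ρ (x * x) v - v) = ρ (x * x) v - v := by
        have hm' : ρ (z k) v - v ∈ Wm := by
          change ρ (z k) (ρ (z k) v - v) = -(ρ (z k) v - v)
          rw [map_sub, hrepzz]; abel
        have h1 := hfm _ hm'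
        have h2 : ρ (x * x) (ρ (z k) v - v) = ρ (z k) v - v := by rw [rep_mul, h1, h1]
        rw [map_sub, rep_mul, hxc, hxc]
        rw [map_sub, rep_mul, rep_mul] at h2
        rw [sub_eq_sub_iff_sub_eq_sub]; exact h2
      obtain ⟨w, hw, u, hu, hwu⟩ := Submodule.mem_sup.1 hmem
      obtain ⟨c, rfl⟩ := Submodule.mem_span_singleton.1 hu
      rw [← hwu, map_add, hWfix w hw, map_smul, hz2k, smul_neg, add_right_inj, neg_eq_self_iff] at hfix
      rw [← hwu, hfix, add_zero]; exact hw
    have hWinv : ∀ v ∈ W, ρ x v ∈ W := by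
      intro v hv
      refine Submodule.span_induction ?_ (by rw [map_zero]; exact zero_mem _)
        (fun u w _ _ hu hw => by rw [map_add]; exact add_mem hu hw)
        (fun c u _ hu => by rw [map_smul]; exact Submodule.smul_mem _ c hu) hv
      rintro _ ⟨i, rfl⟩
      fin_cases i
      · exact hxkW
      · change ρ x (ρ x (e k)) ∈ W
        rw [← rep_mul, ← sub_add_cancel (ρ (x * x) (e k)) (e k)]
        exact add_mem (hrange _) hekW
    have hfW := fixed_of_small hq hq5 (hA x hx) hWinv (finrank_range_le_card _)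
    have hD2 : ∀ v, ρ (x * x) (ρ (x * x) v - v) = ρ (x * x) v - v := fun v => by
      rw [rep_mul, hfW _ (hrange v), hfW _ (hrange v)]
    have h6 : x ^ 6 = 1 := hc.inj (LinearMap.ext fun v => by
      rw [show x ^ 6 = x * x * (x * x) * (x * x) by simp only [pow_succ, pow_zero, one_mul, mul_assoc],
        map_one, Module.End.one_apply, rep_mul, rep_mul]
      obtain ⟨d, hd⟩ : ∃ d, ρ (x * x) v - v = d := ⟨_, rfl⟩
      have h := hD2 v
      rw [hd] at h
      rw [sub_eq_iff_eq_add] at hd
      rw [hd, map_add, h, hd, map_add, map_add, h, hd, ← add_assoc, ← add_assoc, three_smul,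
        zero_add])
    refine hx1 ?_
    have hcop : Nat.Coprime q 6 := (hq.coprime_iff_not_dvd).2 fun h => by
      have := Nat.le_of_dvd (by norm_num) h
      interval_cases q <;> norm_num at *
    simpa [hcop.gcd_eq_one] using (pow_gcd_eq_one (a := x) (m := q) (n := 6)).2 ⟨hA x hx, h6⟩

/-- The largest normal two-subgroup contains its centraliser. -/
theorem centralizer_pCore_two_le [Finite H] [Finite V] (hc : Core ρ b R) :
    Subgroup.centralizer (Cfsg.pCore 2 H : Set H) ≤ Cfsg.pCore 2 H := by
  haveI := hc.solvable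
  haveI : Fact (Nat.Prime 2) := ⟨Nat.prime_two⟩
  refine Base.centralizer_pCore_le_of_isSolvable ?_
  by_contra hne
  have hcop := Base.pPrimeCore_coprime 2 H
  obtain ⟨M, hM, hmin⟩ := Base.exists_isMinimalNormal_le (N := Cfsg.pPrimeCore 2 H)
    (hN := Subgroup.sSup_normal _ fun _ h => h.1) hne
  haveI := hmin.normal
  obtain ⟨q, hq, hcomm, hpow, hpg⟩ := hmin.exists_prime inferInstance
  haveI := Fact.mk hq
  haveI := hcomm
  rcases (show q = 2 ∨ q = 3 ∨ 5 ≤ q by
    rcases hq.eq_two_or_odd with h | h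
    · exact Or.inl h
    · have := hq.two_le; omega) with rfl | rfl | h5
  · obtain ⟨n, hn⟩ := hpg.exists_card_eq
    have h1 := hcop.coprime_dvd_left (Subgroup.card_dvd_of_le hM)
    rw [hn] at h1
    rcases Nat.eq_zero_or_pos n with rfl | hn0
    · exact hmin.ne_bot (M.eq_bot_of_card_eq (by rw [hn, pow_zero]))
    · rw [Nat.coprime_pow_left_iff hn0] at h1; norm_num at h1
  · exact hmin.ne_bot (hc.eq_bot_of_isPGroup_three hpg)
  · exact hmin.ne_bot (hc.eq_bot_of_elementary hq h5 hpow)

theorem pow_three_mem (hc : Core ρ b R) (g : H) : g ^ 3 ∈ R := by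
  haveI := hc.normal
  obtain ⟨r, hr, k, rfl⟩ := hc.gen g
  rw [← QuotientGroup.eq_one_iff, QuotientGroup.mk_pow, QuotientGroup.mk_mul,
    (QuotientGroup.eq_one_iff r).2 hr, one_mul, ← QuotientGroup.mk_pow, ← pow_mul, mul_comm, pow_mul,
    hc.jordan.cube, one_pow, QuotientGroup.mk_one]

theorem pCore_two_le [Finite H] (hc : Core ρ b R) : Cfsg.pCore 2 H ≤ R := by
  intro x hx
  obtain ⟨n, hn⟩ := Base.isPGroup_pCore 2 H ⟨x, hx⟩
  have hx2 : x ^ (2 ^ n) = 1 := congrArg Subtype.val hn
  obtain ⟨m, hm⟩ := Nat.exists_mul_mod_eq_one_of_coprime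
    (show Nat.Coprime 3 (2 ^ (n + 1)) from Nat.Coprime.pow_right _ (by norm_num))
    (Nat.one_lt_two_pow (by omega))
  have hx' : x ^ (2 ^ (n + 1)) = 1 := by rw [pow_succ, pow_mul, hx2, one_pow]
  have := pow_mem (hc.pow_three_mem x) m
  rwa [← pow_mul, ← Nat.mod_add_div (3 * m) (2 ^ (n + 1)), hm.2, pow_add, pow_mul, hx', one_pow,
    mul_one, pow_one] at this

end Core

/-- The case of an order dividing `2 ^ 9 * 5` with trivial largest normal two-subgroup. -/
theorem eq_bot_of_card_dvd {K : Type*} [Group K] [Finite K] [Group.IsSolvable K] {R : Subgroup K}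
    [R.Normal] {c : K} (hc3 : c ^ 3 = 1) (hcomm : ⁅R, Subgroup.zpowers c⁆ = R)
    (hdvd : Nat.card R ∣ 2 ^ 9 * 5) (hO : Cfsg.pCore 2 K = ⊥) : R = ⊥ := by
  by_contra hne
  haveI : Fact (Nat.Prime 2) := ⟨Nat.prime_two⟩
  haveI : Fact (Nat.Prime 3) := ⟨Nat.prime_three⟩
  obtain ⟨M, hMR, hmin⟩ := Base.exists_isMinimalNormal_le hne
  haveI := hmin.normal
  obtain ⟨q, hq, -, -, hpg⟩ := hmin.exists_prime inferInstance
  haveI := Fact.mk hq
  have hMd := (Subgroup.card_dvd_of_le hMR).trans hdvd
  have hMne : Nat.card M ≠ 1 := fun h => hmin.ne_bot (M.eq_bot_of_card_eq h)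
  obtain ⟨n, hn⟩ := hpg.exists_card_eq
  have hM5 : Nat.card M = 5 := by
    have hq2 : q ≠ 2 := by
      rintro rfl
      exact hmin.ne_bot (le_bot_iff.1 (hO ▸ Base.le_pCore hpg))
    have hcop : Nat.Coprime (Nat.card M) (2 ^ 9) := by
      rw [hn]; exact Nat.Coprime.pow _ _ ((Nat.coprime_primes hq Nat.prime_two).2 hq2)
    exact ((Nat.dvd_prime (by norm_num)).1 (hcop.dvd_of_dvd_mul_left hMd)).resolve_left hMne
  -- `c` centralises `M`
  have hcM : c ∈ Subgroup.centralizer (M : Set K) := by
    have hP : IsPGroup 3 (Subgroup.zpowers c) := fun g => ⟨1, by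
      obtain ⟨g, hg⟩ := g
      obtain ⟨k, rfl⟩ := Subgroup.mem_zpowers_iff.1 hg
      refine Subtype.ext ?_
      rw [SubgroupClass.coe_pow, OneMemClass.coe_one, pow_one, ← zpow_natCast, zpow_comm,
        zpow_natCast, hc3, one_zpow]⟩
    have hmod := card_modEq_inf_centralizer hP (M := M)
      (by rw [Subgroup.normalizer_eq_top]; exact Subgroup.mem_top c)
    rw [hM5] at hmod
    have hd : Nat.card ↥(M ⊓ Subgroup.centralizer ({c} : Set K)) ∣ 5 :=
      hM5 ▸ Subgroup.card_dvd_of_le inf_le_left
    rcases (Nat.dvd_prime (by norm_num)).1 hd with h | h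
    · rw [h] at hmod; exact absurd hmod (by decide)
    · have heq := Subgroup.eq_of_le_of_card_ge (inf_le_left :
        M ⊓ Subgroup.centralizer ({c} : Set K) ≤ M) (le_of_eq (hM5.trans h.symm))
      rw [Subgroup.mem_centralizer_iff]
      intro m hm
      rw [SetLike.mem_coe, ← heq] at hm
      exact Subgroup.mem_centralizer_singleton_iff.1 hm.2
  have hRM : R ≤ Subgroup.centralizer (M : Set K) := by
    rw [← hcomm]
    exact (Subgroup.commutator_mono le_rfl (by rwa [Subgroup.zpowers_le])).trans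
      (Subgroup.commutator_le_right R (Subgroup.centralizer (M : Set K)))
  obtain ⟨P⟩ : Nonempty (Sylow 2 R) := inferInstance
  obtain ⟨m, hm⟩ := P.isPGroup'.exists_card_eq
  have hidx : P.index ∣ 5 :=
    ((Nat.prime_two.coprime_iff_not_dvd.2 P.not_dvd_index).symm.pow_right 9).dvd_of_dvd_mul_left
      (P.index_dvd_card.trans hdvd)
  have hPn : P.Normal := by
    rw [← Subgroup.normalizer_eq_top_iff]
    refine Subgroup.eq_top_of_card_eq _ (Nat.dvd_antisymm (Subgroup.card_subgroup_dvd_card _) ?_)
    rw [← P.card_mul_index]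
    refine (mul_dvd_mul_left _ hidx).trans (Nat.Coprime.mul_dvd_of_dvd_of_dvd ?_
      (Subgroup.card_dvd_of_le Subgroup.le_normalizer) ?_)
    · rw [hm]; exact Nat.Coprime.pow_left _ (by norm_num)
    · rw [← hM5, ← Nat.card_congr (Subgroup.subgroupOfEquivOfLe hMR).toEquiv]
      refine Subgroup.card_dvd_of_le fun y hy => ?_
      have hcy : ∀ p : R, Commute (y : R) p := fun p => Subtype.ext
        (Subgroup.mem_centralizer_iff.1 (hRM p.2) y hy)
      rw [Subgroup.mem_normalizer_iff]
      intro p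
      rw [(hcy p).eq, mul_inv_cancel_right]
  have hPbot : (P : Subgroup R) = ⊥ := by
    haveI := hPn
    have h := Subgroup.map_mono (f := R.subtype) (Base.le_pCore P.isPGroup')
    rw [Base.map_pCore_eq_inf, hO, bot_inf_eq, le_bot_iff, Subgroup.map_eq_bot_iff,
      Subgroup.ker_subtype, le_bot_iff] at h
    exact h
  have hRM' : M = R := Subgroup.eq_of_le_of_card_ge hMR (by
    rw [hM5]
    have := P.card_mul_index
    rw [hPbot, Subgroup.card_bot, one_mul] at this
    rw [hPbot] at hidx
    rw [← this]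
    exact Nat.le_of_dvd (by norm_num) hidx)
  refine hne ?_
  rw [← hcomm, Subgroup.commutator_eq_bot_iff_le_centralizer, ← hRM']
  rw [Base.le_centralizer_comm] at *
  exact (Subgroup.zpowers_le.2 hcM)

end CfsgLib.SolvStruct.JordanThree
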