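import Cfsg.Agent.Lib.SolvStruct.JordanThree.Lines
import Cfsg.Agent.Lib.PGroups.Basic

/-!
# The irreducible case: `R` is a four-group or extraspecial of order `32`
-/

set_option autoImplicit false
set_option linter.style.haveILetI false

namespace CfsgLib.SolvStruct.JordanThree

open Cfsg
open scoped commutatorElement

/-- A hom to a commutative monoid with zero kills commutators. -/
theorem map_commutatorElement_eq_one {H M : Type*} [Group H] [CommMonoid M] (φ : H →* M) (a b : H) :
    φ ⁅a, b⁆ = 1 := by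
  rw [commutatorElement_def]
  calc φ (a * b * a⁻¹ * b⁻¹) = φ (a * a⁻¹) * φ (b * b⁻¹) := by
        simp only [map_mul]; ac_rfl
    _ = 1 := by simp

theorem zmod3_sq_one : ∀ s : ZMod 3, s ≠ 0 → s * s = 1 := by decide

/-- The sign patterns of a four-group on three lines. -/
def pat (o : Option (Fin 3)) (j : Fin 3) : ZMod 3 :=
  match o with
  | none => 1
  | some i => if j = i then 1 else -1

theorem exists_pat : ∀ a b c : ZMod 3, a * b * c = 1 → ∃ o : Option (Fin 3),
    pat o 0 = a ∧ pat o 1 = b ∧ pat o 2 = c := by decide +kernel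

theorem pat_injective : Function.Injective pat := by
  intro o o' h
  have h0 := congrFun h 0; have h1 := congrFun h 1; have h2 := congrFun h 2
  revert h0 h1 h2; revert o o'; decide +kernel

/-- The sign patterns on four lines with product one. -/
theorem exists_pat_four : ∀ a b c d : ZMod 3, a * b * c * d = 1 →
    ∃ (o : Option (Fin 3)) (s : ZMod 3), (s = 1 ∨ s = -1) ∧
      pat o 0 * s = a ∧ pat o 1 * s = b ∧ pat o 2 * s = c ∧ s = d := by decide +kernel

theorem pairs_eq : ∀ a b c d : ZMod 3, a * b * c * d = 1 →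
    a * b = c * d ∧ a * c = b * d ∧ a * d = b * c := by decide +kernel

theorem four_good_eq : ∀ π σ : Equiv.Perm (Fin 4),
    (π = 1 ∨ π = Equiv.swap 0 1 * Equiv.swap 2 3 ∨ π = Equiv.swap 0 2 * Equiv.swap 1 3 ∨
      π = Equiv.swap 0 3 * Equiv.swap 1 2) →
    (σ = 1 ∨ σ = Equiv.swap 0 1 * Equiv.swap 2 3 ∨ σ = Equiv.swap 0 2 * Equiv.swap 1 3 ∨
      σ = Equiv.swap 0 3 * Equiv.swap 1 2) → π 3 = σ 3 → π = σ := by decide +kernel

variable {H : Type*} [Group H] {V : Type*} [AddCommGroup V] [Module (ZMod 3) V]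
  {ρ : Representation (ZMod 3) H V} {b : H} {z : Fin 3 → H} {X : Type*}

namespace Lines

/-- The product of all coefficients. -/
noncomputable def coeffProd [Fintype X] (L : Lines ρ b z X) : H →* ZMod 3 where
  toFun g := ∏ x, L.c g x
  map_one' := Finset.prod_eq_one fun x _ => by
    have h := L.c_mul 1 1 x
    rw [mul_one, map_one, Equiv.Perm.one_apply] at h
    exact (mul_eq_left₀ (L.c_ne 1 x)).1 h.symm
  map_mul' g h := by
    simp only [L.c_mul, Finset.prod_mul_distrib]
    congr 1
    exact Equiv.prod_comp (L.π h) (L.c g)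

theorem c_one (L : Lines ρ b z X) (x : X) : L.c 1 x = 1 := by
  have h := L.c_mul 1 1 x
  rw [mul_one, map_one, Equiv.Perm.one_apply] at h
  exact (mul_eq_left₀ (L.c_ne 1 x)).1 h.symm

theorem cyc_b (L : Lines ρ b z X) (i : Fin 3) :
    Cyc (L.π b) (L.P i) (L.P (i + 1)) (L.P (i + 2)) := by
  refine ⟨L.b_P i, ?_, ?_, fun x h1 h2 h3 => L.b_other x fun j => ?_, L.P_inj.ne ?_, L.P_inj.ne ?_,
    L.P_inj.ne ?_⟩
  · rw [L.b_P]; congr 1; fin_cases i <;> rfl
  · rw [L.b_P]; congr 1; fin_cases i <;> rfl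
  · rcases (show ∀ i j : Fin 3, j = i ∨ j = i + 1 ∨ j = i + 2 by decide) i j with rfl | rfl | rfl
    · exact h1
    · exact h2
    · exact h3
  all_goals revert i; decide

end Lines

theorem endgame_lines [Finite H] [Finite V] [Finite X] {R : Subgroup H} (hc : Core ρ b R)
    (hzR : ∀ i, z i ∈ R) (L : Lines ρ b z X) :
    (IsElementaryAbelian 2 R ∧ Nat.card R = 4) ∨
    (IsExtraspecial 2 ↥R ∧ Nat.card R = 32 ∧
      ∃ A : Subgroup H, A ≤ R ∧ IsElementaryAbelian 2 A ∧ Nat.card A = 8) := by
  classical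
  haveI := hc.normal
  haveI := Fintype.ofFinite X
  -- three-elements of the permutation image of `R` are trivial
  have hP3 : ∀ r ∈ R, L.π r ^ 3 = 1 → L.π r = 1 := by
    intro r hr h3
    have h : L.π r ^ Nat.card R = 1 := by
      rw [← map_pow]
      have hp : (⟨r, hr⟩ : R) ^ Nat.card R = 1 := pow_card_eq_one'
      rw [show r ^ Nat.card R = 1 from congrArg Subtype.val hp, map_one]
    have hcop : Nat.Coprime 3 (Nat.card R) := Nat.prime_three.coprime_iff_not_dvd.2 hc.coprime
    simpa [hcop.gcd_eq_one] using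
      (pow_gcd_eq_one (a := L.π r) (m := 3) (n := Nat.card R)).2 ⟨h3, h⟩
  have hmk : ∀ g : H, QuotientGroup.mk' R (g * b * g⁻¹) = QuotientGroup.mk' R b := by
    intro g
    obtain ⟨r, hr, k, rfl⟩ := hc.gen g
    have h1 : QuotientGroup.mk' R r = 1 := (QuotientGroup.eq_one_iff r).2 hr
    rw [map_mul, map_mul, map_inv, map_mul, h1, one_mul, ← map_inv, ← map_mul, ← map_mul,
      ← pow_succ, pow_succ']
    group
  have hcoset : ∀ g k : H, (g * b * g⁻¹)⁻¹ * (k * b * k⁻¹) ∈ R := fun g k => by
    rw [← QuotientGroup.eq_one_iff, ← QuotientGroup.mk'_apply, map_mul, map_inv, hmk, hmk,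
      inv_mul_cancel]
  have hcommR : ∀ g k : H, (g * b * g⁻¹) * (k * b * k⁻¹) * (g * b * g⁻¹)⁻¹ * (k * b * k⁻¹)⁻¹ ∈ R :=
    fun g k => by
    rw [← QuotientGroup.eq_one_iff, ← QuotientGroup.mk'_apply, map_mul, map_mul, map_mul, map_inv,
      map_inv, hmk, hmk, mul_inv_cancel_right, mul_inv_cancel]
  -- configurations of two conjugates of `b` that cannot occur
  have hdisj : ∀ g k a₁ a₂ a₃ d₁ d₂ d₃, Cyc (L.π (g * b * g⁻¹)) a₁ a₂ a₃ →
      Cyc (L.π (k * b * k⁻¹)) d₁ d₂ d₃ → (d₁ ≠ a₁ ∧ d₁ ≠ a₂ ∧ d₁ ≠ a₃) →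
      (d₂ ≠ a₁ ∧ d₂ ≠ a₂ ∧ d₂ ≠ a₃) → (d₃ ≠ a₁ ∧ d₃ ≠ a₂ ∧ d₃ ≠ a₃) → False := by
    intro g k a₁ a₂ a₃ d₁ d₂ d₃ hσ hτ h1 h2 h3
    have h := hσ.disjoint hτ h1 h2 h3
    rw [← map_inv, ← map_mul] at h
    exact h.2 (hP3 _ (hcoset g k) h.1)
  have hone : ∀ g k a a₂ a₃ d₂ d₃, Cyc (L.π (g * b * g⁻¹)) a a₂ a₃ →
      Cyc (L.π (k * b * k⁻¹)) a d₂ d₃ → (d₂ ≠ a₂ ∧ d₂ ≠ a₃) → (d₃ ≠ a₂ ∧ d₃ ≠ a₃) → False := by
    intro g k a a₂ a₃ d₂ d₃ hσ hτ h2 h3
    have h := hσ.overlap_one hτ h2 h3
    rw [← map_inv, ← map_inv, ← map_mul, ← map_mul, ← map_mul] at h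
    exact h.ne_one (hP3 _ (hcommR g k) h.pow_three_eq_one)
  have hedge : ∀ g k a a₂ a₃ d₃, Cyc (L.π (g * b * g⁻¹)) a a₂ a₃ →
      Cyc (L.π (k * b * k⁻¹)) a a₂ d₃ → a₃ = d₃ := by
    intro g k a a₂ a₃ d₃ hσ hτ
    by_contra hne
    have h := hσ.same_edge hτ hne
    rw [← map_inv, ← map_mul] at h
    exact h.ne_one (hP3 _ (hcoset g k) h.pow_three_eq_one)
  have hσ1 : ∀ i, Cyc (L.π (1 * b * 1⁻¹)) (L.P i) (L.P (i + 1)) (L.P (i + 2)) := fun i => by
    rw [inv_one, one_mul, mul_one]; exact L.cyc_b i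
  -- a point outside the frame
  have hout : ∀ x, (∀ i, x ≠ L.P i) →
      ∃ g j, Cyc (L.π (g * b * g⁻¹)) (L.P j) x (L.P (j + 1)) := by
    intro x hx
    obtain ⟨g, hg⟩ := L.transitive (L.P 0) x
    obtain ⟨u, hu⟩ : ∃ u, L.π g (L.P 1) = u := ⟨_, rfl⟩
    obtain ⟨w, hw⟩ : ∃ w, L.π g (L.P 2) = w := ⟨_, rfl⟩
    have hτ : Cyc (L.π (g * b * g⁻¹)) x u w := by
      have h := (L.cyc_b 0).conj (L.π g)
      rw [← map_inv, ← map_mul, ← map_mul] at h
      rwa [show (0 : Fin 3) + 1 = 1 from rfl, show (0 : Fin 3) + 2 = 2 from rfl, hg, hu, hw] at h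
    by_cases hw' : ∃ i, w = L.P i
    · obtain ⟨j, rfl⟩ := hw'
      by_cases hu' : ∃ i, u = L.P i
      · obtain ⟨i, rfl⟩ := hu'
        rcases (show ∀ i j : Fin 3, i = j ∨ i = j + 1 ∨ j = i + 1 by decide) i j with rfl | rfl | rfl
        · exact absurd rfl hτ.nbc
        · exact ⟨g, j, hτ.rot.rot⟩
        · exact absurd (hedge 1 g _ _ _ _ (hσ1 i) hτ.rot) (fun h => hx _ h.symm)
      · push Not at hu'
        exact (hone 1 g _ _ _ _ _ (hσ1 j) hτ.rot.rot ⟨hx _, hx _⟩ ⟨hu' _, hu' _⟩).elim
    · push Not at hw'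
      by_cases hu' : ∃ i, u = L.P i
      · obtain ⟨i, rfl⟩ := hu'
        exact (hone 1 g _ _ _ _ _ (hσ1 i) hτ.rot ⟨hw' _, hw' _⟩ ⟨hx _, hx _⟩).elim
      · push Not at hu'
        exact (hdisj 1 g _ _ _ _ _ _ (hσ1 0) hτ ⟨hx _, hx _, hx _⟩ ⟨hu' _, hu' _, hu' _⟩
          ⟨hw' _, hw' _, hw' _⟩).elim
  have hatmost : ∀ x y, (∀ i, x ≠ L.P i) → (∀ i, y ≠ L.P i) → x = y := by
    intro x y hx hy
    by_contra hne
    obtain ⟨g, j, hg⟩ := hout x hx
    obtain ⟨k, j', hk⟩ := hout y hy
    rcases (show ∀ j j' : Fin 3, j' = j ∨ j' = j + 1 ∨ j = j' + 1 by decide) j j' with rfl | rfl | rfl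
    · exact hne (hedge g k _ _ _ _ hg.rot.rot hk.rot.rot)
    · refine hone g k _ _ _ _ _ hg.rot.rot hk ⟨(hy _), Ne.symm hne⟩ ⟨?_, fun h => hx _ h.symm⟩
      exact L.P_inj.ne ((show ∀ i : Fin 3, i + 1 + 1 ≠ i by decide) j)
    · refine hone k g _ _ _ _ _ hk.rot.rot hg ⟨(hx _), hne⟩ ⟨?_, fun h => hy _ h.symm⟩
      exact L.P_inj.ne ((show ∀ i : Fin 3, i + 1 + 1 ≠ i by decide) j')
  -- `R` lies in the kernel of the coefficient product
  have hprod : ∀ r ∈ R, ∏ x, L.c r x = 1 := by
    have h : R ≤ L.coeffProd.ker := by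
      rw [← hc.comm, Subgroup.commutator_le]
      exact fun g _ k _ => map_commutatorElement_eq_one _ g k
    exact fun r hr => h hr
  by_cases hk : ∃ x, ∀ i, x ≠ L.P i
  · -- four lines
    obtain ⟨x₀, hx₀⟩ := hk
    right
    let pt : Fin 4 → X := ![L.P 0, L.P 1, L.P 2, x₀]
    have hpt : ∀ i : Fin 3, pt i.castSucc = L.P i := by intro i; fin_cases i <;> rfl
    have hbij : Function.Bijective pt := by
      constructor
      · intro i j h
        by_contra hij
        fin_cases i <;> fin_cases j <;> simp [pt] at h hij <;>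
          first
            | exact absurd (L.P_inj h) (by decide)
            | exact hx₀ _ h
            | exact hx₀ _ h.symm
      · intro x
        by_cases h : ∃ i, x = L.P i
        · obtain ⟨i, rfl⟩ := h; exact ⟨i.castSucc, hpt i⟩
        · push Not at h; exact ⟨3, hatmost x₀ x hx₀ h⟩
    let ε : Fin 4 ≃ X := Equiv.ofBijective pt hbij
    let φ : H →* Equiv.Perm (Fin 4) := (Equiv.permCongrHom ε.symm).toMonoidHom.comp L.π
    have hφ : ∀ g i, φ g i = ε.symm (L.π g (ε i)) := fun g i => rfl
    have hφ' : ∀ g i, L.π g (ε i) = ε (φ g i) := fun g i => by rw [hφ, Equiv.apply_symm_apply]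
    have hφ1 : ∀ g, φ g = 1 ↔ L.π g = 1 := fun g =>
      ⟨fun h => Equiv.ext fun x => by
        obtain ⟨i, rfl⟩ := ε.surjective x
        rw [show L.π g (ε i) = ε (φ g i) from (Equiv.apply_symm_apply ε _).symm, h,
          Equiv.Perm.one_apply, Equiv.Perm.one_apply],
      fun h => Equiv.ext fun i => by
        change ε.symm (L.π g (ε i)) = i
        rw [h, Equiv.Perm.one_apply, Equiv.symm_apply_apply]⟩
    have hφb : φ b = rotFour := by
      ext i
      rw [hφ]
      congr 1
      rw [Equiv.symm_apply_eq]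
      change L.π b (pt i) = pt (rotFour i)
      by_cases h : ∃ j : Fin 3, i = j.castSucc
      · obtain ⟨j, rfl⟩ := h
        rw [rotFour_apply, hpt, hpt, L.b_P]
      · have hi : i = 3 := by
          push Not at h
          revert h; revert i; decide
        subst hi
        rw [rotFour_last]; exact L.b_other x₀ hx₀
    have hφz : ∀ i, φ (z i) = 1 := fun i => (hφ1 _).2 (L.z_π i)
    have hgood : ∀ r ∈ R, φ r = 1 ∨ φ r = Equiv.swap 0 1 * Equiv.swap 2 3 ∨
        φ r = Equiv.swap 0 2 * Equiv.swap 1 3 ∨ φ r = Equiv.swap 0 3 * Equiv.swap 1 2 := by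
      have h3 : ∀ r ∈ R, φ r ^ 3 = 1 → φ r = 1 := fun r hr h => (hφ1 r).2 (hP3 r hr (by
        rw [← map_pow, hφ1, map_pow] at h; exact h))
      intro r hr
      refine perm_four_good _ (h3 r hr) ?_
      rw [← hφb, ← map_inv, ← map_mul, ← map_mul, ← map_mul]
      exact h3 _ (mul_mem hr (hc.normal.conj_mem r hr b))
    have hd : ∀ r ∈ R, L.c r (ε 0) * L.c r (ε 1) * L.c r (ε 2) * L.c r (ε 3) = 1 := fun r hr => by
      have h := hprod r hr
      rw [← ε.prod_comp] at h
      simpa [Fin.prod_univ_four] using h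
    have hext : ∀ g k, φ g = φ k → (∀ i, L.c g (ε i) = L.c k (ε i)) → g = k := fun g k h1 h2 =>
      L.ext g k fun x => by
        obtain ⟨i, rfl⟩ := ε.surjective x
        exact ⟨by rw [hφ', hφ', h1], h2 i⟩
    have hscal : ∀ g (s : ZMod 3), φ g = 1 → (∀ i, L.c g (ε i) = s) → ρ g = s • 1 := fun g s h1 h2 =>
      L.scalar g s ((hφ1 g).1 h1) fun x => by obtain ⟨i, rfl⟩ := ε.surjective x; exact h2 i
    have hsq : ∀ r ∈ R, Scalar ρ (r * r) := by
      intro r hr
      obtain ⟨p01, p02, p03⟩ := pairs_eq _ _ _ _ (hd r hr)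
      have hcm : ∀ i, L.c (r * r) (ε i) = L.c r (ε (φ r i)) * L.c r (ε i) := fun i => by
        rw [L.c_mul, hφ']
      rcases hgood r hr with h | h | h | h
      · left
        have h2 : r * r = 1 := hext _ _ (by rw [map_mul, h, map_one, mul_one]) fun i => by
          rw [hcm, h, Equiv.Perm.one_apply, L.c_one]; exact zmod3_sq_one _ (L.c_ne _ _)
        rw [h2, map_one]
      all_goals
        have hφsq : φ (r * r) = 1 := by rw [map_mul, h]; decide
        obtain ⟨s, hs0, hs⟩ : ∃ s : ZMod 3, s ≠ 0 ∧ ∀ i, L.c (r * r) (ε i) = s := by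
          refine ⟨L.c (r * r) (ε 0), L.c_ne _ _, fun i => ?_⟩
          rw [hcm, hcm, h]
          fin_cases i <;> simp +decide [Equiv.swap_apply_def] <;>
            first
              | exact mul_comm _ _
              | (rw [mul_comm]; first | exact p01.symm | exact p02.symm | exact p03.symm)
              | exact p01.symm | exact p02.symm | exact p03.symm
              | exact p01 | exact p02 | exact p03
              | (rw [mul_comm, ← p01]; exact mul_comm _ _)
              | (rw [mul_comm, ← p02]; exact mul_comm _ _)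
              | (rw [mul_comm, ← p03]; exact mul_comm _ _)
              | (rw [← p01]; exact mul_comm _ _)
              | (rw [← p02]; exact mul_comm _ _)
              | (rw [← p03]; exact mul_comm _ _)
        have := hscal _ s hφsq hs
        rcases (show ∀ d : ZMod 3, d ≠ 0 → d = 1 ∨ d = -1 by decide) s hs0 with rfl | rfl
        · left; rw [this, one_smul]
        · right; rw [this, neg_one_smul]
    -- transitivity of `R`
    have htr : ∀ i : Fin 4, ∃ r ∈ R, φ r 3 = i := by
      have hfix : ∀ k : ℕ, φ (b ^ k) 3 = 3 := fun k => by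
        induction k with
        | zero => simp
        | succ k ih => rw [pow_succ, map_mul, Equiv.Perm.mul_apply, hφb, rotFour_last, ih]
      intro i
      obtain ⟨g, hg⟩ := L.transitive (ε 3) (ε i)
      obtain ⟨r, hr, k, rfl⟩ := hc.gen g
      refine ⟨r, hr, ?_⟩
      rw [hφ', map_mul, Equiv.Perm.mul_apply, hfix] at hg
      exact ε.injective hg
    have hzc : ∀ i j, L.c (z i) (ε (Fin.castSucc j)) = if j = i then 1 else -1 := fun i j => by
      change L.c (z i) (pt j.castSucc) = _
      rw [hpt]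
      split
      · subst j; exact L.z_self i
      · exact L.z_P i j (by assumption)
    have hz3 : ∀ i, L.c (z i) (ε 3) = 1 := fun i => L.z_other i x₀ hx₀
    -- an element acting as `-1`
    obtain ⟨w, hwR, hw⟩ : ∃ w ∈ R, ρ w = -1 := by
      obtain ⟨r, hr, hr0⟩ := htr 0
      have hzz : z 1 * z 1 = 1 := by
        refine hext _ _ (by rw [map_mul, hφz, map_one, mul_one]) fun i => ?_
        rw [L.c_mul, L.z_π, Equiv.Perm.one_apply, L.c_one]; exact zmod3_sq_one _ (L.c_ne _ _)
      have hsr := hsq r hr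
      have heq : r * z 1 * r⁻¹ * (z 1)⁻¹ = (r * z 1) * (r * z 1) * (r * r)⁻¹ := by
        rw [inv_eq_of_mul_eq_one_right hzz, show r⁻¹ = r * (r * r)⁻¹ by group,
          ← mul_assoc (r * z 1) r, mul_assoc _ ((r * r)⁻¹) (z 1),
          ((hsr.inv hc.inj).commute hc.inj (z 1)).eq]
        simp only [mul_assoc]
      have hne : r * z 1 ≠ z 1 * r := fun h => by
        have h1 := L.c_mul r (z 1) (ε 3)
        have h2 := L.c_mul (z 1) r (ε 3)
        rw [L.z_π, Equiv.Perm.one_apply, hz3, mul_one, h, h2, hφ', hr0,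
          show (0 : Fin 4) = Fin.castSucc 0 from rfl, hzc, if_neg (by decide)] at h1
        exact L.c_ne r (ε 3) ((show ∀ d : ZMod 3, -1 * d = d → d = 0 by decide) _ h1)
      have hs : Scalar ρ (r * z 1 * r⁻¹ * (z 1)⁻¹) := by
        rw [heq]; exact (hsq _ (mul_mem hr (hzR 1))).mul (hsr.inv hc.inj)
      refine ⟨_, mul_mem (mul_mem (mul_mem hr (hzR 1)) (inv_mem hr)) (inv_mem (hzR 1)),
        hs.resolve_left fun h => hne ?_⟩
      have h' : r * z 1 * r⁻¹ * (z 1)⁻¹ = 1 := hc.inj (by rw [h, map_one])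
      rwa [← commutatorElement_def, commutatorElement_eq_one_iff_mul_comm] at h'
    have hwc : ∀ i, φ w = 1 ∧ L.c w (ε i) = -1 := fun i =>
      ⟨(hφ1 w).2 (L.of_neg w hw).1, (L.of_neg w hw).2 _⟩
    -- the diagonal part of `R`
    let D : Subgroup H := R ⊓ φ.ker
    have hDsq : ∀ d ∈ D, ∀ i, L.c d (ε i) * L.c d (ε i) = 1 := fun d _ i =>
      zmod3_sq_one _ (L.c_ne _ _)
    have hD : IsElementaryAbelian 2 D := by
      refine ⟨⟨⟨fun a a' => Subtype.ext (hext _ _ ?_ fun i => ?_)⟩⟩, fun a ha => ?_⟩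
      · change φ ((a : H) * a') = φ ((a' : H) * a)
        rw [map_mul, map_mul, show φ (a : H) = 1 from a.2.2, show φ (a' : H) = 1 from a'.2.2]
      · change L.c ((a : H) * a') (ε i) = L.c ((a' : H) * a) (ε i)
        rw [L.c_mul, L.c_mul, hφ', hφ', show φ (a : H) = 1 from a.2.2,
          show φ (a' : H) = 1 from a'.2.2, Equiv.Perm.one_apply, mul_comm]
      · refine hext _ _ (by rw [pow_two, map_mul, show φ a = 1 from ha.2, map_one, mul_one]) fun i => ?_
        rw [pow_two, L.c_mul, hφ', show φ a = 1 from ha.2, Equiv.Perm.one_apply, L.c_one]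
        exact hDsq a ha i
    have hcard8 : Nat.card D = 8 := by
      let T := {d : Fin 4 → ZMod 3 // d 0 * d 1 * d 2 * d 3 = 1}
      let Φ : D → T := fun d => ⟨fun i => L.c (d : H) (ε i), hd _ d.2.1⟩
      have hΦ : Function.Bijective Φ := by
        constructor
        · intro d d' h
          refine Subtype.ext (hext _ _ ?_ fun i => congrFun (congrArg Subtype.val h) i)
          rw [show φ (d : H) = 1 from d.2.2, show φ (d' : H) = 1 from d'.2.2]
        · rintro ⟨t, ht⟩
          obtain ⟨o, s, hs, h0, h1, h2, h3⟩ := exists_pat_four _ _ _ _ ht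
          let q : H := o.elim 1 z
          have hqR : q ∈ R := by cases o; exacts [one_mem R, hzR _]
          have hqφ : φ q = 1 := by cases o; exacts [map_one φ, hφz _]
          have hqc : ∀ j : Fin 3, L.c q (ε j.castSucc) = pat o j := fun j => by
            cases o with
            | none => exact L.c_one _
            | some i => exact hzc i j
          have hq3 : L.c q (ε 3) = 1 := by
            cases o with
            | none => exact L.c_one _
            | some i => exact hz3 i
          let u : H := if s = 1 then 1 else w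
          have huR : u ∈ R := by simp only [u]; split; exacts [one_mem R, hwR]
          have huφ : φ u = 1 := by simp only [u]; split; exacts [map_one φ, (hwc 0).1]
          have huc : ∀ i, L.c u (ε i) = s := fun i => by
            simp only [u]
            split
            · rw [L.c_one]; exact (by assumption : s = 1).symm
            · rw [(hwc i).2]; exact (hs.resolve_left (by assumption)).symm
          refine ⟨⟨q * u, mul_mem hqR huR, by
            change φ (q * u) = 1; rw [map_mul, hqφ, huφ, one_mul]⟩, Subtype.ext (funext fun i => ?_)⟩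
          change L.c (q * u) (ε i) = t i
          rw [L.c_mul, hφ', huφ, Equiv.Perm.one_apply, huc]
          fin_cases i
          · exact (congrArg (· * s) (hqc 0)).trans h0
          · exact (congrArg (· * s) (hqc 1)).trans h1
          · exact (congrArg (· * s) (hqc 2)).trans h2
          · exact (congrArg (· * s) hq3).trans (by rw [one_mul, h3]; rfl)
      rw [Nat.card_eq_of_bijective Φ hΦ, Nat.card_eq_fintype_card]
      decide +kernel
    have hcard32 : Nat.card R = 32 := by
      let χ : R →* Equiv.Perm (Fin 4) := φ.comp R.subtype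
      have hker : Nat.card χ.ker = 8 := by
        rw [← hcard8]
        exact Nat.card_congr
          { toFun := fun r => ⟨r.1.1, r.1.2, r.2⟩
            invFun := fun d => ⟨⟨d.1, d.2.1⟩, d.2.2⟩
            left_inv := fun r => rfl
            right_inv := fun d => rfl }
      have hrange : Nat.card χ.range = 4 := by
        have hbij : Function.Bijective fun σ : χ.range => (σ : Equiv.Perm (Fin 4)) 3 := by
          constructor
          · rintro ⟨_, r, rfl⟩ ⟨_, r', rfl⟩ h
            exact Subtype.ext (four_good_eq _ _ (hgood _ r.2) (hgood _ r'.2) h)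
          · intro i
            obtain ⟨r, hr, h⟩ := htr i
            exact ⟨⟨χ ⟨r, hr⟩, ⟨r, hr⟩, rfl⟩, h⟩
        rw [Nat.card_eq_of_bijective _ hbij, Nat.card_fin]
      rw [← χ.ker.card_mul_index, Subgroup.index_ker, hker, hrange]
    refine ⟨?_, hcard32, D, inf_le_left, hD, hcard8⟩
    -- extraspecial
    haveI : Fact (Nat.Prime 2) := ⟨Nat.prime_two⟩
    have hp : IsPGroup 2 R := IsPGroup.of_card (n := 5) (by rw [hcard32]; norm_num)
    have hZ : ∀ u : R, u ∈ Subgroup.center R ↔ Scalar ρ (u : H) := by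
      intro u
      refine ⟨fun hu => ?_, fun hu => Subgroup.mem_center_iff.2 fun v =>
        Subtype.ext ((hu.commute hc.inj v).symm.eq)⟩
      have hcomm : ∀ v ∈ R, (u : H) * v = v * u := fun v hv =>
        congrArg Subtype.val (Subgroup.mem_center_iff.1 hu ⟨v, hv⟩).symm
      have hmove : φ u = 1 := by
        have hmove0 : φ u (Fin.castSucc 0) = Fin.castSucc 0 := by
          by_contra hne
          have hi : ∀ i : Fin 3, L.c (z i) (ε (φ u (Fin.castSucc 0))) =
              L.c (z i) (ε (Fin.castSucc 0)) := fun i => by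
            have h1 := L.c_mul (u : H) (z i) (ε (Fin.castSucc 0))
            have h2 := L.c_mul (z i) (u : H) (ε (Fin.castSucc 0))
            rw [hcomm _ (hzR i), h2, hφ', L.z_π, Equiv.Perm.one_apply,
              mul_comm (L.c (u : H) _)] at h1
            exact mul_right_cancel₀ (L.c_ne _ _) h1
          rcases (show ∀ j : Fin 4, j = 3 ∨ ∃ k : Fin 3, j = k.castSucc by decide)
            (φ u (Fin.castSucc 0)) with h | ⟨k, h⟩
          · have h' := hi 1
            rw [h, hz3, hzc, if_neg (by decide)] at h'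
            exact absurd h' (by decide)
          · have h' := hi 0
            rw [h, hzc, hzc, if_pos rfl] at h'
            have hk : k ≠ 0 := fun hk => hne (by rw [h, hk])
            rw [if_neg hk] at h'
            exact absurd h' (by decide)
        rcases hgood u u.2 with h | h | h | h
        · exact h
        all_goals rw [h] at hmove0; exact absurd hmove0 (by decide)
      have hconst : ∀ i, L.c (u : H) (ε i) = L.c (u : H) (ε 3) := fun i => by
        obtain ⟨r, hr, hr3⟩ := htr i
        have h1 := L.c_mul (u : H) r (ε 3)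
        have h2 := L.c_mul r (u : H) (ε 3)
        rw [hcomm r hr, h2, hφ' r, hr3, hφ', hmove, Equiv.Perm.one_apply,
          mul_comm (L.c (u : H) _)] at h1
        exact (mul_left_cancel₀ (L.c_ne _ _) h1).symm
      have hsc := hscal _ _ hmove hconst
      rcases (show ∀ d : ZMod 3, d ≠ 0 → d = 1 ∨ d = -1 by decide) _ (L.c_ne (u : H) (ε 3))
        with h | h <;> rw [h] at hsc
      · left; rw [hsc, one_smul]
      · right; rw [hsc, neg_one_smul]
    have hw1 : (⟨w, hwR⟩ : R) ≠ 1 := fun h => by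
      have h' : L.c w (ε 0) = 1 := by rw [show w = 1 from congrArg Subtype.val h, L.c_one]
      rw [(hwc 0).2] at h'; exact absurd h' (by decide)
    have hcardZ : Nat.card (Subgroup.center R) = 2 := by
      have hbij : Function.Bijective (fun s : Bool =>
          (if s then ⟨⟨w, hwR⟩, (hZ _).2 (Or.inr hw)⟩ else 1 : Subgroup.center R)) := by
        constructor
        · intro s t h
          have h' := congrArg (fun u : Subgroup.center R => (u : R)) h
          cases s <;> cases t
          · rfl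
          · exact absurd h'.symm hw1
          · exact absurd h' hw1
          · rfl
        · rintro ⟨u, hu⟩
          rcases (hZ u).1 hu with h | h
          · exact ⟨false, Subtype.ext (Subtype.ext (hc.inj (by simpa using h.symm)))⟩
          · exact ⟨true, Subtype.ext (Subtype.ext (hc.inj (hw.trans h.symm)))⟩
      rw [← Nat.card_eq_of_bijective _ hbij, Nat.card_eq_fintype_card, Fintype.card_bool]
    have hcC : commutator R ≤ Subgroup.center R := by
      rw [commutator_def, Subgroup.commutator_le]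
      intro u _ v _
      rw [hZ]
      have h : ((⁅u, v⁆ : R) : H) = ((u : H) * v * ((u : H) * v)) * ((v : H) * v)⁻¹ *
          ((u : H) * u)⁻¹ := by
        rw [mul_assoc ((u : H) * v * ((u : H) * v)) ((v : H) * v)⁻¹,
          ← (((hsq u u.2).inv hc.inj).commute hc.inj ((v : H) * v)⁻¹).eq,
          show (u : H) * v * ((u : H) * v) * (((u : H) * u)⁻¹ * ((v : H) * v)⁻¹) =
            (u : H) * v * u * ((v : H) * ((u : H) * u)⁻¹) * ((v : H) * v)⁻¹ by group,
          ← (((hsq u u.2).inv hc.inj).commute hc.inj (v : H)).eq, commutatorElement_def]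
        push_cast
        group
      rw [h]
      exact ((hsq _ (mul_mem u.2 v.2)).mul ((hsq v v.2).inv hc.inj)).mul ((hsq u u.2).inv hc.inj)
    have hCc : Subgroup.center R ≤ commutator R := by
      have hne : commutator R ≠ ⊥ := fun h => by
        have := (commutator_eq_bot_iff_center_eq_top R).1 h
        rw [this, Subgroup.card_top, hcard32] at hcardZ
        omega
      have h1 : 1 < Nat.card (commutator R) := (Subgroup.one_lt_card_iff_ne_bot _).2 hne
      exact (Subgroup.eq_of_le_of_card_ge hcC (by omega)).ge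
    refine ⟨⟨hp, le_antisymm ?_ ?_, le_antisymm hcC hCc⟩, hcardZ⟩
    · refine PGroups.frattini_le_of_elementary_quotient (p := 2) hcC fun u => ?_
      rw [hZ, SubmonoidClass.coe_pow, pow_two]; exact hsq u u.2
    · exact hCc.trans (PGroups.commutator_le_frattini hp)
  · -- three lines
    push Not at hk
    left
    let ε : Fin 3 ≃ X := Equiv.ofBijective L.P ⟨L.P_inj, fun x => by
      obtain ⟨i, hi⟩ := hk x; exact ⟨i, hi.symm⟩⟩
    let φ : H →* Equiv.Perm (Fin 3) := (Equiv.permCongrHom ε.symm).toMonoidHom.comp L.π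
    have hφ1 : ∀ g, φ g = 1 ↔ L.π g = 1 := fun g =>
      ⟨fun h => Equiv.ext fun x => by
        obtain ⟨i, rfl⟩ := ε.surjective x
        rw [show L.π g (ε i) = ε (φ g i) from (Equiv.apply_symm_apply ε _).symm, h,
          Equiv.Perm.one_apply, Equiv.Perm.one_apply],
      fun h => Equiv.ext fun i => by
        change ε.symm (L.π g (ε i)) = i
        rw [h, Equiv.Perm.one_apply, Equiv.symm_apply_apply]⟩
    have hφb : φ b = rotThree := Equiv.ext fun i => by
      change ε.symm (L.π b (L.P i)) = rotThree i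
      rw [L.b_P, rotThree_apply, Equiv.symm_apply_eq]; rfl
    have hdiag : ∀ r ∈ R, L.π r = 1 := by
      have h3 : ∀ r ∈ R, φ r ^ 3 = 1 → φ r = 1 := fun r hr h => (hφ1 r).2 (hP3 r hr (by
        rw [← map_pow, hφ1, map_pow] at h; exact h))
      intro r hr
      rw [← hφ1]
      refine perm_three_eq_one _ (h3 r hr) ?_
      rw [← hφb, ← map_inv, ← map_mul, ← map_mul, ← map_mul]
      exact h3 _ (mul_mem hr (hc.normal.conj_mem r hr b))
    have hval : ∀ o j, L.c (o.elim 1 z) (L.P j) = pat o j := fun o j => by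
      cases o with
      | none => exact L.c_one _
      | some i =>
        change L.c (z i) _ = if j = i then _ else _
        split
        · subst j; exact L.z_self i
        · exact L.z_P i j (by assumption)
    have hπo : ∀ o : Option (Fin 3), L.π (o.elim 1 z) = 1 := fun o => by
      cases o; exacts [map_one _, L.z_π _]
    have hmemR : ∀ o : Option (Fin 3), o.elim 1 z ∈ R := fun o => by
      cases o; exacts [one_mem R, hzR _]
    have hbij : Function.Bijective fun o : Option (Fin 3) => (⟨o.elim 1 z, hmemR o⟩ : R) := by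
      constructor
      · intro o o' h
        refine pat_injective (funext fun j => ?_)
        rw [← hval, ← hval, show o.elim 1 z = o'.elim 1 z from congrArg Subtype.val h]
      · rintro ⟨r, hr⟩
        have hp := hprod r hr
        rw [← ε.prod_comp, Fin.prod_univ_three] at hp
        obtain ⟨o, h0, h1, h2⟩ := exists_pat _ _ _ hp
        refine ⟨o, Subtype.ext (L.ext _ _ fun x => ⟨by rw [hdiag r hr, hπo], ?_⟩)⟩
        obtain ⟨j, rfl⟩ := hk x
        rw [hval]
        fin_cases j
        exacts [h0, h1, h2]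
    refine ⟨⟨⟨⟨fun u v => Subtype.ext (L.ext _ _ fun x => ?_)⟩⟩, fun u hu => ?_⟩, ?_⟩
    · change L.π ((u : H) * v) x = L.π ((v : H) * u) x ∧
        L.c ((u : H) * v) x = L.c ((v : H) * u) x
      rw [map_mul, map_mul, L.c_mul, L.c_mul, hdiag u u.2, hdiag v v.2, Equiv.Perm.one_apply]
      exact ⟨rfl, mul_comm _ _⟩
    · refine L.ext _ _ fun x => ?_
      rw [pow_two, map_mul, L.c_mul, hdiag u hu, map_one, mul_one, L.c_one, Equiv.Perm.one_apply]
      exact ⟨rfl, zmod3_sq_one _ (L.c_ne _ _)⟩
    · rw [← Nat.card_eq_of_bijective _ hbij, Nat.card_eq_fintype_card]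
      rfl

/-- The irreducible case. -/
theorem Core.structure_R [Finite H] [Finite V] {R : Subgroup H} (hc : Core ρ b R) :
    (IsElementaryAbelian 2 R ∧ Nat.card R = 4) ∨
    (IsExtraspecial 2 ↥R ∧ Nat.card R = 32 ∧
      ∃ A : Subgroup H, A ≤ R ∧ IsElementaryAbelian 2 A ∧ Nat.card A = 8) := by
  haveI := hc.solvable
  haveI : Fact (Nat.Prime 2) := ⟨Nat.prime_two⟩
  obtain ⟨A, hAn, hA, a, ha, hns⟩ := hc.exists_elementary
  haveI := hAn
  -- `b` does not centralise `A`
  obtain ⟨x, hx, hxb⟩ : ∃ x ∈ A, b * x * b⁻¹ ≠ x := by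
    by_contra h
    push Not at h
    have hb : b ∈ Subgroup.centralizer (A : Set H) := Subgroup.mem_centralizer_iff.2 fun g hg =>
      (mul_inv_eq_iff_eq_mul.1 (h g hg)).symm
    have hcen := hc.le_center_of_commute hb ha
    let M : Submodule (ZMod 3) V := LinearMap.ker (ρ a - 1)
    have hM : ∀ v, v ∈ M ↔ ρ a v = v := fun v => by
      rw [LinearMap.mem_ker, LinearMap.sub_apply, Module.End.one_apply, sub_eq_zero]
    have hinv : ∀ g, ∀ v ∈ M, ρ g v ∈ M := fun g v hv => by
      rw [hM] at hv ⊢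
      rw [← rep_mul, ← Subgroup.mem_center_iff.1 hcen g, rep_mul, hv]
    rcases hc.irred M hinv with h' | h'
    · refine hns (Or.inr (LinearMap.ext fun v => ?_))
      have hm : ρ a v + v ∈ M := by
        rw [hM, map_add, ← rep_mul,
          show a * a = 1 from (pow_two a).symm.trans (hA.2 a ha), map_one, Module.End.one_apply,
          add_comm]
      rw [h', Submodule.mem_bot, add_eq_zero_iff_eq_neg] at hm
      exact hm
    · exact hns (Or.inl (LinearMap.ext fun v => (hM v).1 (h' ▸ Submodule.mem_top)))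
  have hy : x⁻¹ * (b * x * b⁻¹) ∈ A := mul_mem (inv_mem hx) (hAn.conj_mem x hx b)
  obtain ⟨z, hz, hz0⟩ := Triple.of_conj hc.jordan.cube
    (fun h => hxb (inv_mul_eq_one.1 h).symm) ((pow_two _).symm.trans (hA.2 _ hy))
  have hzA : ∀ i, z i ∈ A := by
    have h0 : z 0 ∈ A := hz0 ▸ hy
    have h1 : z 1 ∈ A := by have := hAn.conj_mem _ h0 b; rwa [hz.conj] at this
    intro i
    fin_cases i
    · exact h0
    · exact h1
    · have := mul_mem h0 h1; rwa [show z 0 * z 1 = z 2 from hz.mul 0] at this
  have hAR : A ≤ R := fun g hg => by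
    have h2 : g * g = 1 := (pow_two g).symm.trans (hA.2 g hg)
    have h3 := hc.pow_three_mem g
    rwa [pow_three, h2, mul_one] at h3
  obtain ⟨X, ⟨L⟩⟩ := exists_lines hc hz hA hzA
  haveI : Finite X := Set.toFinite X |>.to_subtype
  exact endgame_lines hc (fun i => hAR (hzA i)) L

end CfsgLib.SolvStruct.JordanThree
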