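import Mathlib

/-!
# Permutation facts about three-cycles
-/

set_option autoImplicit false

namespace CfsgLib.SolvStruct.JordanThree

variable {α : Type*}

/-- `σ` is the three-cycle `a → b → c → a`. -/
structure Cyc (σ : Equiv.Perm α) (a b c : α) : Prop where
  ab : σ a = b
  bc : σ b = c
  ca : σ c = a
  other : ∀ x, x ≠ a → x ≠ b → x ≠ c → σ x = x
  nab : a ≠ b
  nbc : b ≠ c
  nac : a ≠ c

namespace Cyc

variable {σ τ : Equiv.Perm α} {a b c d e f : α}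

theorem rot (h : Cyc σ a b c) : Cyc σ b c a :=
  ⟨h.bc, h.ca, h.ab, fun x h1 h2 h3 => h.other x h3 h1 h2, h.nbc, h.nac.symm, h.nab.symm⟩

theorem inv_ab (h : Cyc σ a b c) : σ⁻¹ b = a := by rw [← h.ab]; exact Equiv.symm_apply_apply σ a

theorem inv_bc (h : Cyc σ a b c) : σ⁻¹ c = b := h.rot.inv_ab

theorem inv_ca (h : Cyc σ a b c) : σ⁻¹ a = c := h.rot.rot.inv_ab

theorem inv_other (h : Cyc σ a b c) {x : α} (h1 : x ≠ a) (h2 : x ≠ b) (h3 : x ≠ c) : σ⁻¹ x = x := by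
  conv_lhs => rw [← h.other x h1 h2 h3]
  exact Equiv.symm_apply_apply σ x

theorem pow_three_eq_one (h : Cyc σ a b c) : σ ^ 3 = 1 := by
  ext x
  rw [pow_three]
  simp only [Equiv.Perm.mul_apply, Equiv.Perm.one_apply]
  rcases eq_or_ne x a with rfl | h1
  · rw [h.ab, h.bc, h.ca]
  rcases eq_or_ne x b with rfl | h2
  · rw [h.bc, h.ca, h.ab]
  rcases eq_or_ne x c with rfl | h3
  · rw [h.ca, h.ab, h.bc]
  · rw [h.other x h1 h2 h3, h.other x h1 h2 h3, h.other x h1 h2 h3]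

theorem ne_one (h : Cyc σ a b c) : σ ≠ 1 := fun h1 => h.nab (by rw [← h.ab, h1]; rfl)

theorem conj (h : Cyc σ a b c) (g : Equiv.Perm α) : Cyc (g * σ * g⁻¹) (g a) (g b) (g c) := by
  have hg : ∀ x, g⁻¹ (g x) = x := fun x => Equiv.symm_apply_apply g x
  refine ⟨?_, ?_, ?_, fun x h1 h2 h3 => ?_, g.injective.ne h.nab, g.injective.ne h.nbc,
    g.injective.ne h.nac⟩
  · rw [Equiv.Perm.mul_apply, Equiv.Perm.mul_apply, hg, h.ab]
  · rw [Equiv.Perm.mul_apply, Equiv.Perm.mul_apply, hg, h.bc]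
  · rw [Equiv.Perm.mul_apply, Equiv.Perm.mul_apply, hg, h.ca]
  · have hgg : ∀ y, g (g⁻¹ y) = y := fun y => Equiv.apply_symm_apply g y
    rw [Equiv.Perm.mul_apply, Equiv.Perm.mul_apply, h.other _ (fun h' => h1 (by rw [← h', hgg]))
      (fun h' => h2 (by rw [← h', hgg])) (fun h' => h3 (by rw [← h', hgg])), hgg]

/-- Disjoint three-cycles: `σ⁻¹ τ` has order three. -/
theorem disjoint (hσ : Cyc σ a b c) (hτ : Cyc τ d e f) (hd : d ≠ a ∧ d ≠ b ∧ d ≠ c)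
    (he : e ≠ a ∧ e ≠ b ∧ e ≠ c) (hf : f ≠ a ∧ f ≠ b ∧ f ≠ c) :
    (σ⁻¹ * τ) ^ 3 = 1 ∧ σ⁻¹ * τ ≠ 1 := by
  have hc : Commute σ τ := by
    ext x
    simp only [Equiv.Perm.mul_apply]
    rcases eq_or_ne x d with rfl | h1
    · rw [hτ.ab, hσ.other _ he.1 he.2.1 he.2.2, hσ.other _ hd.1 hd.2.1 hd.2.2, hτ.ab]
    rcases eq_or_ne x e with rfl | h2
    · rw [hτ.bc, hσ.other _ hf.1 hf.2.1 hf.2.2, hσ.other _ he.1 he.2.1 he.2.2, hτ.bc]
    rcases eq_or_ne x f with rfl | h3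
    · rw [hτ.ca, hσ.other _ hd.1 hd.2.1 hd.2.2, hσ.other _ hf.1 hf.2.1 hf.2.2, hτ.ca]
    rw [hτ.other x h1 h2 h3]
    rcases eq_or_ne x a with rfl | k1
    · rw [hσ.ab, hτ.other b hd.2.1.symm he.2.1.symm hf.2.1.symm]
    rcases eq_or_ne x b with rfl | k2
    · rw [hσ.bc, hτ.other c hd.2.2.symm he.2.2.symm hf.2.2.symm]
    rcases eq_or_ne x c with rfl | k3
    · rw [hσ.ca, hτ.other a hd.1.symm he.1.symm hf.1.symm]
    · rw [hσ.other x k1 k2 k3, hτ.other x h1 h2 h3]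
  refine ⟨?_, fun h => ?_⟩
  · rw [hc.inv_left.mul_pow, inv_pow, hσ.pow_three_eq_one, hτ.pow_three_eq_one, inv_one, one_mul]
  · rw [inv_mul_eq_one] at h
    exact hτ.nab (by rw [← hτ.ab, ← h, hσ.other _ hd.1 hd.2.1 hd.2.2])

/-- Three-cycles meeting in one point: the commutator is a three-cycle. -/
theorem overlap_one (hσ : Cyc σ a b c) (hτ : Cyc τ a e f) (he : e ≠ b ∧ e ≠ c)
    (hf : f ≠ b ∧ f ≠ c) : Cyc (σ * τ * σ⁻¹ * τ⁻¹) a b e := by
  refine ⟨?_, ?_, ?_, fun x h1 h2 h3 => ?_, hσ.nab, he.1.symm, hτ.nab⟩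
  · simp only [Equiv.Perm.mul_apply]
    rw [hτ.inv_ca, hσ.inv_other hτ.nac.symm hf.1 hf.2, hτ.ca, hσ.ab]
  · simp only [Equiv.Perm.mul_apply]
    rw [hτ.inv_other hσ.nab.symm he.1.symm hf.1.symm, hσ.inv_ab, hτ.ab,
      hσ.other e hτ.nab.symm he.1 he.2]
  · simp only [Equiv.Perm.mul_apply]
    rw [hτ.inv_ab, hσ.inv_ca, hτ.other c hσ.nac.symm he.2.symm hf.2.symm, hσ.ca]
  · simp only [Equiv.Perm.mul_apply]
    rcases eq_or_ne x c with rfl | k1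
    · rw [hτ.inv_other hσ.nac.symm he.2.symm hf.2.symm, hσ.inv_bc,
        hτ.other b hσ.nab.symm he.1.symm hf.1.symm, hσ.bc]
    rcases eq_or_ne x f with rfl | k2
    · rw [hτ.inv_bc, hσ.inv_other hτ.nab.symm he.1 he.2, hτ.bc,
        hσ.other _ hτ.nac.symm hf.1 hf.2]
    · rw [hτ.inv_other h1 h3 k2, hσ.inv_other h1 h2 k1, hτ.other x h1 h3 k2, hσ.other x h1 h2 k1]

/-- Three-cycles sharing an oriented edge: `σ⁻¹ τ` is a three-cycle. -/
theorem same_edge (hσ : Cyc σ a b c) (hτ : Cyc τ a b d) (hcd : c ≠ d) :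
    Cyc (σ⁻¹ * τ) b d c := by
  refine ⟨?_, ?_, ?_, fun x h1 h2 h3 => ?_, hτ.nbc, hcd.symm, hσ.nbc⟩
  · rw [Equiv.Perm.mul_apply, hτ.bc, hσ.inv_other hτ.nac.symm hτ.nbc.symm hcd.symm]
  · rw [Equiv.Perm.mul_apply, hτ.ca, hσ.inv_ca]
  · rw [Equiv.Perm.mul_apply, hτ.other c hσ.nac.symm hσ.nbc.symm hcd, hσ.inv_bc]
  · rw [Equiv.Perm.mul_apply]
    rcases eq_or_ne x a with rfl | k
    · rw [hτ.ab, hσ.inv_ab]
    · rw [hτ.other x k h1 h2, hσ.inv_other k h1 h3]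

end Cyc

/-- The rotation of the first three of four points. -/
def rotFour : Equiv.Perm (Fin 4) := Equiv.swap 0 1 * Equiv.swap 1 2

/-- The rotation of three points. -/
def rotThree : Equiv.Perm (Fin 3) := Equiv.swap 0 1 * Equiv.swap 1 2

theorem rotThree_apply (i : Fin 3) : rotThree i = i + 1 := by revert i; decide

theorem rotFour_apply (i : Fin 3) : rotFour i.castSucc = (i + 1).castSucc := by revert i; decide

theorem rotFour_last : rotFour 3 = 3 := by decide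

theorem perm_three_eq_one : ∀ π : Equiv.Perm (Fin 3), (π ^ 3 = 1 → π = 1) →
    ((π * (rotThree * π * rotThree⁻¹)) ^ 3 = 1 → π * (rotThree * π * rotThree⁻¹) = 1) → π = 1 := by
  decide +kernel

theorem perm_four_good : ∀ π : Equiv.Perm (Fin 4), (π ^ 3 = 1 → π = 1) →
    ((π * (rotFour * π * rotFour⁻¹)) ^ 3 = 1 → π * (rotFour * π * rotFour⁻¹) = 1) →
    π = 1 ∨ π = Equiv.swap 0 1 * Equiv.swap 2 3 ∨ π = Equiv.swap 0 2 * Equiv.swap 1 3 ∨
      π = Equiv.swap 0 3 * Equiv.swap 1 2 := by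
  decide +kernel

end CfsgLib.SolvStruct.JordanThree
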