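import Cfsg.Agent.Lib.SolvStruct.JordanThree.TwoCore
import Cfsg.Agent.Lib.SolvStruct.JordanThree.Perms

/-!
# The monomial structure given by a normal elementary abelian two-subgroup
-/

set_option autoImplicit false
set_option linter.style.haveILetI false

namespace CfsgLib.SolvStruct.JordanThree

variable {H : Type*} [Group H] {V : Type*} [AddCommGroup V] [Module (ZMod 3) V]

/-- A monomial structure: vectors `f x`, permuted up to scalars. -/
structure Lines (ρ : Representation (ZMod 3) H V) (b : H) (z : Fin 3 → H) (X : Type*) where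
  /-- the vectors -/
  f : X → V
  /-- the permutation of the lines -/
  π : H →* Equiv.Perm X
  /-- the coefficients -/
  c : H → X → ZMod 3
  /-- the three moved points -/
  P : Fin 3 → X
  c_ne : ∀ g x, c g x ≠ 0
  c_mul : ∀ g h x, c (g * h) x = c g (π h x) * c h x
  ext : ∀ g h, (∀ x, π g x = π h x ∧ c g x = c h x) → g = h
  P_inj : Function.Injective P
  b_P : ∀ i, π b (P i) = P (i + 1)
  b_other : ∀ x, (∀ i, x ≠ P i) → π b x = x
  c_b : ∀ x, c b x = 1
  z_π : ∀ i, π (z i) = 1
  z_self : ∀ i, c (z i) (P i) = 1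
  z_P : ∀ i j, j ≠ i → c (z i) (P j) = -1
  z_other : ∀ i x, (∀ j, x ≠ P j) → c (z i) x = 1
  transitive : ∀ x y, ∃ g, π g x = y
  scalar : ∀ g (s : ZMod 3), π g = 1 → (∀ x, c g x = s) → ρ g = s • 1
  of_neg : ∀ g, ρ g = -1 → π g = 1 ∧ ∀ x, c g x = -1

theorem exists_lines {ρ : Representation (ZMod 3) H V} {b : H} {R : Subgroup H}
    [Finite H] [Finite V] (hc : Core ρ b R) {z : Fin 3 → H} (hz : Triple b z) {A : Subgroup H}
    [A.Normal] (hA : Cfsg.IsElementaryAbelian 2 A) (hzA : ∀ i, z i ∈ A) :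
    ∃ X : Set (Submodule (ZMod 3) V), Nonempty (Lines ρ b z X) := by
  classical
  obtain ⟨e, he⟩ := hz.exists_frame hc.jordan hc.inj
  have hcm : ∀ a ∈ A, ∀ a' ∈ A, Commute a a' := fun a ha a' ha' =>
    congrArg Subtype.val (hA.1.is_comm.comm (⟨a, ha⟩ : A) ⟨a', ha'⟩)
  have hzi : ∀ a ∈ A, ∀ i v, ρ (z i) (ρ a v) = ρ a (ρ (z i) v) := fun a ha i v => by
    rw [← rep_mul, ← rep_mul, (hcm _ (hzA i) a ha).eq]
  have hsq : ∀ a ∈ A, a * a = 1 := fun a ha => (pow_two a).symm.trans (hA.2 a ha)
  -- every element of `A` is a sign on `e 0`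
  have hσ : ∀ a ∈ A, ∃ s : ZMod 3, ρ a (e 0) = s • e 0 := fun a ha =>
    he.line 0 _ (by rw [hzi a ha, he.z_self]) (by rw [hzi a ha, he.z_other _ _ (by decide), map_neg])
  choose! σ hσ using hσ
  have hconj : ∀ (g a : H), a ∈ A → g⁻¹ * a * g ∈ A := fun g a ha => by
    simpa using (inferInstance : A.Normal).conj_mem a ha g⁻¹
  have heig : ∀ (g : H) (a : H), a ∈ A → ρ a (ρ g (e 0)) = σ (g⁻¹ * a * g) • ρ g (e 0) :=
    fun g a ha => by
      rw [← map_smul, ← hσ _ (hconj g a ha), ← rep_mul, ← rep_mul]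
      congr 2; group
  have hne : ∀ g, ρ g (e 0) ≠ 0 := fun g h => he.ne 0 (rep_inj g (h.trans (map_zero _).symm))
  -- a vector with the character of a line lies in that line
  have huniq : ∀ g v, (∀ a ∈ A, ρ a v = σ (g⁻¹ * a * g) • v) →
      v ∈ Submodule.span (ZMod 3) {ρ g (e 0)} := by
    intro g v hv
    have hw : ∀ a ∈ A, ρ a (ρ g⁻¹ v) = σ a • ρ g⁻¹ v := fun a ha => by
      have h := hv (g * a * g⁻¹) ((inferInstance : A.Normal).conj_mem a ha g)
      rw [show g⁻¹ * (g * a * g⁻¹) * g = a by group] at h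
      rw [← map_smul, ← h, ← rep_mul, ← rep_mul]
      congr 2; group
    have hs : ∀ (i : Fin 3) (s : ZMod 3), ρ (z i) (e 0) = s • e 0 → σ (z i) = s := fun i s hs => by
      have h := hσ _ (hzA i)
      rw [hs] at h
      have h' : (σ (z i) - s) • e 0 = 0 := by rw [sub_smul, ← h, sub_self]
      exact sub_eq_zero.1 ((smul_eq_zero.1 h').resolve_right (he.ne 0))
    obtain ⟨c, hc'⟩ := he.line 0 (ρ g⁻¹ v)
      (by rw [hw _ (hzA 0), hs 0 1 (by rw [he.z_self, one_smul]), one_smul])
      (by rw [hw _ (hzA _), hs _ (-1) (by rw [he.z_other _ _ (by decide), neg_one_smul]), neg_one_smul])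
    refine Submodule.mem_span_singleton.2 ⟨c, ?_⟩
    rw [← map_smul, ← hc', rep_self_inv]
  -- the frame vectors are images of `e 0`
  have hei : ∀ i : Fin 3, ∃ g, ρ g (e 0) = e i := by
    have h1 : ρ b (e 0) = e 1 := he.b_apply 0
    have h2 : ρ (b * b) (e 0) = e 2 := by rw [rep_mul, h1]; exact he.b_apply 1
    intro i
    fin_cases i
    · exact ⟨1, by rw [map_one]; rfl⟩
    · exact ⟨b, h1⟩
    · exact ⟨b * b, h2⟩
  -- the lines
  let X : Set (Submodule (ZMod 3) V) := Set.range fun g => Submodule.span (ZMod 3) {ρ g (e 0)}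
  have hmap : ∀ g k, (Submodule.span (ZMod 3) {ρ k (e 0)}).map (ρ g) =
      Submodule.span (ZMod 3) {ρ (g * k) (e 0)} := fun g k => by
    rw [Submodule.map_span, Set.image_singleton, rep_mul]
  have hmem : ∀ g (x : X), (x : Submodule (ZMod 3) V).map (ρ g) ∈ X := fun g x => by
    obtain ⟨k, hk⟩ := x.2
    exact ⟨g * k, by rw [← hk, hmap]⟩
  letI : MulAction H X :=
    { smul := fun g x => ⟨(x : Submodule (ZMod 3) V).map (ρ g), hmem g x⟩
      one_smul := fun x => Subtype.ext (by
        change (x : Submodule (ZMod 3) V).map (ρ 1) = x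
        rw [map_one]; exact Submodule.map_id _)
      mul_smul := fun g k x => Subtype.ext (by
        change (x : Submodule (ZMod 3) V).map (ρ (g * k)) =
          ((x : Submodule (ZMod 3) V).map (ρ k)).map (ρ g)
        rw [← Submodule.map_comp, map_mul]; rfl) }
  have hsmul : ∀ g (x : X), ((g • x : X) : Submodule (ZMod 3) V) =
      (x : Submodule (ZMod 3) V).map (ρ g) := fun g x => rfl
  let π : H →* Equiv.Perm X := MulAction.toPermHom H X
  let P : Fin 3 → X := fun i => ⟨Submodule.span (ZMod 3) {e i}, by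
    obtain ⟨g, hg⟩ := hei i; exact ⟨g, by rw [← hg]⟩⟩
  have hPinj : Function.Injective P := by
    intro i j hij
    by_contra hne'
    have h : e i ∈ Submodule.span (ZMod 3) {e j} := by
      have := congrArg Subtype.val hij
      simp only [P] at this
      rw [← this]; exact Submodule.mem_span_singleton_self _
    obtain ⟨c, hc'⟩ := Submodule.mem_span_singleton.1 h
    have h' := congrArg (ρ (z i)) hc'
    rw [map_smul, he.z_other i j (Ne.symm hne'), he.z_self, smul_neg, hc'] at h'
    exact he.ne i ((neg_eq_self_iff _).1 h')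
  -- choice of vectors
  let f : X → V := fun x =>
    if h : ∃ i, x = P i then e h.choose else ρ x.2.choose (e 0)
  have hfP : ∀ i, f (P i) = e i := fun i => by
    have h : ∃ j, P i = P j := ⟨i, rfl⟩
    simp only [f, dif_pos h]
    rw [← hPinj h.choose_spec]
  have hfg : ∀ x : X, ∃ g, f x = ρ g (e 0) := fun x => by
    by_cases h : ∃ i, x = P i
    · obtain ⟨g, hg⟩ := hei h.choose
      exact ⟨g, by simp only [f, dif_pos h, hg]⟩
    · exact ⟨x.2.choose, by simp only [f, dif_neg h]⟩
  have hfspan : ∀ x : X, (x : Submodule (ZMod 3) V) = Submodule.span (ZMod 3) {f x} := fun x => by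
    by_cases h : ∃ i, x = P i
    · obtain ⟨i, rfl⟩ := h
      rw [hfP]
    · simp only [f, dif_neg h]
      exact x.2.choose_spec.symm
  have hfne : ∀ x, f x ≠ 0 := fun x => by obtain ⟨g, hg⟩ := hfg x; rw [hg]; exact hne g
  have hc0 : ∀ g (x : X), ∃ c : ZMod 3, ρ g (f x) = c • f (π g x) := fun g x => by
    have h : ρ g (f x) ∈ ((g • x : X) : Submodule (ZMod 3) V) := by
      rw [hsmul]
      refine Submodule.mem_map_of_mem ?_
      rw [hfspan x]; exact Submodule.mem_span_singleton_self _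
    rw [hfspan (g • x)] at h
    obtain ⟨c, hc'⟩ := Submodule.mem_span_singleton.1 h
    exact ⟨c, hc'.symm⟩
  choose c hceq using hc0
  have hcuniq : ∀ (x : X) (s t : ZMod 3), s • f x = t • f x → s = t := fun x s t h => by
    have h' : (s - t) • f x = 0 := by rw [sub_smul, h, sub_self]
    exact sub_eq_zero.1 ((smul_eq_zero.1 h').resolve_right (hfne x))
  have hval : ∀ g (x y : X) (s : ZMod 3), s ≠ 0 → ρ g (f x) = s • f y → π g x = y ∧ c g x = s := by
    intro g x y s hs h
    have hy : π g x = y := by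
      refine Subtype.ext ?_
      change ((g • x : X) : Submodule (ZMod 3) V) = _
      rw [hsmul, hfspan x, hfspan y, Submodule.map_span, Set.image_singleton, h,
        Submodule.span_singleton_smul_eq (IsUnit.mk0 s hs)]
    refine ⟨hy, hcuniq y _ _ ?_⟩
    rw [← h, hceq, hy]
  -- the span is everything
  have htop : Submodule.span (ZMod 3) (Set.range f) = ⊤ := by
    refine (hc.irred _ fun g v hv => ?_).resolve_left fun h => ?_
    · refine Submodule.span_induction ?_ (by rw [map_zero]; exact zero_mem _)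
        (fun u w _ _ hu hw => by rw [map_add]; exact add_mem hu hw)
        (fun t u _ hu => by rw [map_smul]; exact Submodule.smul_mem _ t hu) hv
      rintro _ ⟨x, rfl⟩
      rw [hceq]
      exact Submodule.smul_mem _ _ (Submodule.subset_span ⟨_, rfl⟩)
    · have hm : f (P 0) ∈ Submodule.span (ZMod 3) (Set.range f) := Submodule.subset_span ⟨_, rfl⟩
      rw [h, Submodule.mem_bot] at hm
      exact hfne _ hm
  have hext : ∀ T U : V →ₗ[ZMod 3] V, (∀ x, T (f x) = U (f x)) → T = U := fun T U h =>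
    LinearMap.ext_on_range htop h
  -- outside the frame the four-group is trivial
  have hout : ∀ x : X, (∀ i, x ≠ P i) → ∀ i, ρ (z i) (f x) = f x := by
    intro x hx
    obtain ⟨g, hg⟩ := hfg x
    have hpm : ∀ i, ρ (z i) (f x) = f x ∨ ρ (z i) (f x) = -f x := fun i => by
      have h2 : ρ (z i) (ρ (z i) (f x)) = f x := by
        rw [← rep_mul, hz.sq, map_one, Module.End.one_apply]
      have h1 : ρ (z i) (f x) = σ (g⁻¹ * z i * g) • f x := by rw [hg]; exact heig g _ (hzA i)
      rw [h1, map_smul, h1, smul_smul] at h2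
      have h3 := hcuniq x _ 1 (h2.trans (one_smul _ _).symm)
      rcases (show ∀ d : ZMod 3, d * d = 1 → d = 1 ∨ d = -1 by decide) _ h3 with h | h
      · left; rw [h1, h, one_smul]
      · right; rw [h1, h, neg_one_smul]
    have hno : ∀ i, ρ (z i) (f x) = f x → ρ (z (i + 1)) (f x) = -f x → False := fun i h1 h2 => by
      obtain ⟨t, ht⟩ := he.line i _ h1 h2
      have ht0 : t ≠ 0 := fun h => hfne x (by rw [ht, h, zero_smul])
      refine hx i (Subtype.ext ?_)
      rw [hfspan x, hfspan (P i), hfP, ht, Submodule.span_singleton_smul_eq (IsUnit.mk0 t ht0)]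
    intro i
    rcases hpm i with h | h
    · exact h
    exfalso
    rcases hpm (i + 2) with h' | h'
    · refine hno (i + 2) h' ?_
      rwa [show i + 2 + 1 = i by fin_cases i <;> rfl]
    · refine hno (i + 1) ?_ (by rwa [show i + 1 + 1 = i + 2 by fin_cases i <;> rfl])
      rw [← hz.mul', rep_mul, h', map_neg, h, neg_neg]
  have hb : ∀ x : X, ∃ y, ρ b (f x) = (1 : ZMod 3) • f y ∧
      (∀ i, x = P i → y = P (i + 1)) ∧ ((∀ i, x ≠ P i) → y = x) := by
    intro x
    by_cases h : ∃ i, x = P i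
    · obtain ⟨i, rfl⟩ := h
      exact ⟨P (i + 1), by rw [one_smul, hfP, hfP, he.b_apply],
        fun j hj => by rw [hPinj hj], fun h' => absurd rfl (h' i)⟩
    · push Not at h
      exact ⟨x, by rw [one_smul]; exact he.b_fix _ (hout x h), fun i hi => absurd hi (h i),
        fun _ => rfl⟩
  have hzv : ∀ i (x : X), ∃ s : ZMod 3, s ≠ 0 ∧ ρ (z i) (f x) = s • f x ∧
      (∀ j, x = P j → s = if j = i then 1 else -1) ∧ ((∀ j, x ≠ P j) → s = 1) := by
    intro i x
    by_cases h : ∃ j, x = P j
    · obtain ⟨j, rfl⟩ := h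
      refine ⟨if j = i then 1 else -1, by split <;> decide, ?_, fun j' hj' => by rw [hPinj hj'],
        fun h' => absurd rfl (h' j)⟩
      rw [hfP]
      split
      · subst j; rw [he.z_self, one_smul]
      · rw [he.z_other i j (by assumption), neg_one_smul]
    · push Not at h
      exact ⟨1, one_ne_zero, by rw [one_smul]; exact hout x h i, fun j hj => absurd hj (h j),
        fun _ => rfl⟩
  refine ⟨X, ⟨
    { f := f, π := π, c := c, P := P
      c_ne := fun g x h => hfne x (rep_inj g (by rw [hceq, h, zero_smul, map_zero]))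
      c_mul := fun g k x => ?_
      ext := fun g k h => hc.inj (hext _ _ fun x => by rw [hceq, hceq, (h x).1, (h x).2])
      P_inj := hPinj
      b_P := fun i => ?_
      b_other := fun x hx => ?_
      c_b := fun x => ?_
      z_π := fun i => ?_
      z_self := fun i => ?_
      z_P := fun i j hji => ?_
      z_other := fun i x hx => ?_
      transitive := fun x y => ?_
      scalar := fun g s hg hs => hext _ _ fun x => by
        rw [hceq, hg, hs]; rfl
      of_neg := fun g hg => ?_ }⟩⟩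
  · refine hcuniq (π (g * k) x) _ _ ?_
    rw [← hceq, rep_mul, hceq k x, map_smul, hceq, smul_smul, mul_comm, map_mul,
      Equiv.Perm.mul_apply]
  · obtain ⟨y, h1, h2, -⟩ := hb (P i)
    rw [(hval b _ y 1 one_ne_zero h1).1, h2 i rfl]
  · obtain ⟨y, h1, -, h3⟩ := hb x
    rw [(hval b _ y 1 one_ne_zero h1).1, h3 hx]
  · obtain ⟨y, h1, -, -⟩ := hb x
    exact (hval b _ y 1 one_ne_zero h1).2
  · refine Equiv.ext fun x => ?_
    obtain ⟨s, hs, h, -, -⟩ := hzv i x
    exact (hval _ _ _ _ hs h).1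
  · obtain ⟨s, hs, h, h', -⟩ := hzv i (P i)
    rw [(hval _ _ _ _ hs h).2, h' i rfl, if_pos rfl]
  · obtain ⟨s, hs, h, h', -⟩ := hzv i (P j)
    rw [(hval _ _ _ _ hs h).2, h' j rfl, if_neg hji]
  · obtain ⟨s, hs, h, -, h'⟩ := hzv i x
    rw [(hval _ _ _ _ hs h).2, h' hx]
  · obtain ⟨g, hg⟩ := x.2
    obtain ⟨k, hk⟩ := y.2
    refine ⟨k * g⁻¹, Subtype.ext ?_⟩
    change ((x : Submodule (ZMod 3) V).map (ρ (k * g⁻¹))) = (y : Submodule (ZMod 3) V)
    rw [← hg, ← hk, hmap, inv_mul_cancel_right]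
  · have h : ∀ x, ρ g (f x) = (-1 : ZMod 3) • f x := fun x => by rw [hg, neg_one_smul]; rfl
    exact ⟨Equiv.ext fun x => (hval g x x (-1) (by decide) (h x)).1,
      fun x => (hval g x x (-1) (by decide) (h x)).2⟩

end CfsgLib.SolvStruct.JordanThree
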