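import Cfsg.Agent.Lib.SolvStruct.JordanThree.Endgame
import Cfsg.Agent.Lib.Coprime.Action
import Cfsg.Agent.Lib.Base.Frattini

/-!
# Reduction to the irreducible case
-/

set_option autoImplicit false
set_option linter.style.haveILetI false

namespace CfsgLib.SolvStruct.JordanThree

open Cfsg
open scoped commutatorElement

variable {S : Type*} [Group S] {E : Type*} [AddCommGroup E] [Module (ZMod 3) E]

/-- A group of linear maps of order prime to three and a cubic Jordan element `b`: the coprime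
commutator is a four-group or extraspecial of order `32`, and the space splits. -/
theorem structure_of_commutator [Finite S] [Group.IsSolvable S] [Finite E]
    {ρ : Representation (ZMod 3) S E} (hρ : Function.Injective ρ) {b : S} (hJ : Jordan ρ b)
    {R : Subgroup S} (hbR : b ∈ Subgroup.normalizer (R : Set S)) (hcop : ¬ 3 ∣ Nat.card R)
    (hcomm : ⁅R, Subgroup.zpowers b⁆ = R) {z : Fin 3 → S} (hz : Triple b z) (hzR : ∀ i, z i ∈ R) :
    ((IsElementaryAbelian 2 R ∧ Nat.card R = 4) ∨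
      (IsExtraspecial 2 ↥R ∧ Nat.card R = 32 ∧
        ∃ A : Subgroup S, A ≤ R ∧ IsElementaryAbelian 2 A ∧ Nat.card A = 8)) ∧
    ∃ F₀ F₁ : Submodule (ZMod 3) E, F₀ ⊓ F₁ = ⊥ ∧ F₀ ⊔ F₁ = ⊤ ∧
      (∀ r ∈ R, ∀ v ∈ F₁, ρ r v = v) ∧
      (∀ r ∈ R ⊔ Subgroup.zpowers b, ∀ v ∈ F₀, ρ r v ∈ F₀) ∧
      (∀ r ∈ R ⊔ Subgroup.zpowers b, (∀ v ∈ F₀, ρ r v = v) → r = 1) ∧
      (∀ N : Submodule (ZMod 3) E, N ≤ F₀ →
        (∀ r ∈ R ⊔ Subgroup.zpowers b, ∀ v ∈ N, ρ r v ∈ N) → N = ⊥ ∨ N = F₀) := by
  classical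
  haveI := Fintype.ofFinite R
  obtain ⟨e, he⟩ := hz.exists_frame hJ hρ
  set HB := R ⊔ Subgroup.zpowers b with hHB
  have hbn : Subgroup.zpowers b ≤ Subgroup.normalizer (R : Set S) := Subgroup.zpowers_le.2 hbR
  have hdec : ∀ g ∈ HB, ∃ r ∈ R, ∃ k : ℕ, g = r * b ^ k := by
    intro g hg
    obtain ⟨c, hc, r, hr, rfl⟩ := (Coprime.mem_sup_iff_of_le_normalizer hbn).1
      (by rwa [hHB, sup_comm] at hg)
    obtain ⟨k, rfl⟩ := mem_powers_iff_mem_zpowers.2 hc
    exact ⟨b ^ k * r * (b ^ k)⁻¹, (Subgroup.mem_normalizer_iff.1 (pow_mem hbR k) r).1 hr, k,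
      (inv_mul_cancel_right _ _).symm⟩
  have hRle : R ≤ HB := le_sup_left
  have hbH : b ∈ HB := Subgroup.mem_sup_right (Subgroup.mem_zpowers b)
  -- triviality on a quotient passes from `b` to `R`
  have hK : ∀ M N : Submodule (ZMod 3) E, N ≤ M → (∀ g ∈ HB, ∀ v ∈ M, ρ g v ∈ M) →
      (∀ g ∈ HB, ∀ v ∈ N, ρ g v ∈ N) → (∀ v ∈ M, ρ b v - v ∈ N) →
      ∀ r ∈ R, ∀ v ∈ M, ρ r v - v ∈ N := by
    intro M N hNM hMi hNi hb
    let K : Subgroup S :=
      { carrier := {g | g ∈ HB ∧ ∀ v ∈ M, ρ g v - v ∈ N}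
        one_mem' := ⟨one_mem _, fun v _ => by
          rw [map_one, Module.End.one_apply, sub_self]; exact zero_mem _⟩
        mul_mem' := fun {g k} hg hk => ⟨mul_mem hg.1 hk.1, fun v hv => by
          rw [rep_mul, ← sub_add_sub_cancel (ρ g (ρ k v)) (ρ k v) v]
          exact add_mem (hg.2 _ (hMi k hk.1 v hv)) (hk.2 v hv)⟩
        inv_mem' := fun {g} hg => ⟨inv_mem hg.1, fun v hv => by
          have h := neg_mem (hg.2 _ (hMi _ (inv_mem hg.1) v hv))
          rwa [rep_self_inv, neg_sub] at h⟩ }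
    have hKn : ∀ h ∈ HB, ∀ g ∈ K, h * g * h⁻¹ ∈ K := fun h hh g hg =>
      ⟨mul_mem (mul_mem hh hg.1) (inv_mem hh), fun v hv => by
        have h1 := hNi h hh _ (hg.2 _ (hMi _ (inv_mem hh) v hv))
        rwa [map_sub, rep_self_inv, ← rep_mul, ← rep_mul] at h1⟩
    have hbK : b ∈ K := ⟨hbH, hb⟩
    intro r hr
    have hrK : r ∈ K := by
      have hle : ⁅R, Subgroup.zpowers b⁆ ≤ K := by
        rw [Subgroup.commutator_le]
        intro g hg c hc
        have hcK : c ∈ K := Subgroup.zpowers_le.2 hbK hc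
        rw [commutatorElement_def]
        exact mul_mem (hKn g (hRle hg) c hcK) (inv_mem hcK)
      rw [hcomm] at hle
      exact hle hr
    exact hrK.2
  -- averaging over `R`
  let sc : ZMod 3 := (Nat.card R : ZMod 3)⁻¹
  have hsc : sc * (Nat.card R : ZMod 3) = 1 :=
    inv_mul_cancel₀ (by rw [Ne, ZMod.natCast_eq_zero_iff]; exact hcop)
  let avg : E →ₗ[ZMod 3] E := sc • ∑ r : R, ρ (r : S)
  have havg : ∀ v, avg v = sc • ∑ r : R, ρ (r : S) v := fun v => by
    simp only [avg, LinearMap.smul_apply, LinearMap.sum_apply]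
  have hfix : ∀ v, (∀ r ∈ R, ρ r v = v) → avg v = v := fun v hv => by
    rw [havg, Finset.sum_congr rfl fun (r : R) _ => hv (r : S) r.2, Finset.sum_const, Finset.card_univ,
      ← Nat.card_eq_fintype_card, ← Nat.cast_smul_eq_nsmul (ZMod 3), smul_smul, hsc, one_smul]
  have hleft : ∀ r ∈ R, ∀ v, ρ r (avg v) = avg v := fun r hr v => by
    rw [havg, map_smul, map_sum]
    congr 1
    exact Fintype.sum_equiv (Equiv.mulLeft (⟨r, hr⟩ : R)) _ _ fun s => (rep_mul r (s : S) v).symm
  have hright : ∀ r ∈ R, ∀ v, avg (ρ r v) = avg v := fun r hr v => by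
    rw [havg, havg]
    congr 1
    exact Fintype.sum_equiv (Equiv.mulRight (⟨r, hr⟩ : R)) _ _ fun s => (rep_mul (s : S) r v).symm
  have hbc : ∀ v, avg (ρ b v) = ρ b (avg v) := fun v => by
    rw [havg, havg, map_smul, map_sum]
    congr 1
    let φ : R ≃ R :=
      { toFun := fun s => ⟨b⁻¹ * s * b, by
          simpa using (Subgroup.mem_normalizer_iff.1 (inv_mem hbR) (s : S)).1 s.2⟩
        invFun := fun s => ⟨b * s * b⁻¹, (Subgroup.mem_normalizer_iff.1 hbR (s : S)).1 s.2⟩
        left_inv := fun s => Subtype.ext (by simp [mul_assoc])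
        right_inv := fun s => Subtype.ext (by simp [mul_assoc]) }
    refine Fintype.sum_equiv φ _ _ fun s => ?_
    change ρ (s : S) (ρ b v) = ρ b (ρ (b⁻¹ * s * b) v)
    rw [← rep_mul, ← rep_mul]; congr 2; group
  let F₀ : Submodule (ZMod 3) E := LinearMap.ker avg
  let F₁ : Submodule (ZMod 3) E := LinearMap.range avg
  have hF₁ : ∀ r ∈ R, ∀ v ∈ F₁, ρ r v = v := by
    rintro r hr _ ⟨u, rfl⟩; exact hleft r hr u
  have hinf : F₀ ⊓ F₁ = ⊥ := (Submodule.eq_bot_iff _).2 fun v hv => by
    rw [← hfix v (fun r hr => hF₁ r hr v hv.2)]; exact hv.1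
  have hsup : F₀ ⊔ F₁ = ⊤ := eq_top_iff.2 fun v _ => by
    rw [← sub_add_cancel v (avg v)]
    exact add_mem (Submodule.mem_sup_left (LinearMap.mem_ker.2 (by
      rw [map_sub, hfix (avg v) (fun r hr => hleft r hr v), sub_self])))
      (Submodule.mem_sup_right ⟨v, rfl⟩)
  have hinv : ∀ g ∈ HB, ∀ v ∈ F₀, ρ g v ∈ F₀ := by
    intro g hg v hv
    have hv' : avg v = 0 := hv
    obtain ⟨r, hr, k, rfl⟩ := hdec g hg
    change avg (ρ (r * b ^ k) v) = 0
    rw [rep_mul, hright r hr]
    clear hg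
    induction k with
    | zero => rwa [pow_zero, map_one, Module.End.one_apply]
    | succ k ih => rw [pow_succ', rep_mul, hbc, ih, map_zero]
  have he0 : ∀ i, e i ∈ F₀ := fun i => by
    change avg (e i) = 0
    rw [← neg_eq_self_iff, ← map_neg, ← he.z_other (i + 1) i (by fin_cases i <;> decide),
      hright _ (hzR _)]
  have hirr : ∀ N : Submodule (ZMod 3) E, N ≤ F₀ →
      (∀ r ∈ HB, ∀ v ∈ N, ρ r v ∈ N) → N = ⊥ ∨ N = F₀ := by
    intro N hN hNi
    have hzN : ∀ i, ∀ v ∈ N, ρ (z i) v ∈ N := fun i => hNi _ (hRle (hzR i))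
    by_cases hex : ∃ i, e i ∈ N
    · right
      have hall : ∀ i, e i ∈ N := by
        obtain ⟨i, hi⟩ := hex
        have h1 : e (i + 1) ∈ N := by rw [← he.b_apply]; exact hNi b hbH _ hi
        have h2 : e (i + 2) ∈ N := by
          have := hNi b hbH _ h1
          rwa [he.b_apply, show i + 1 + 1 = i + 2 by fin_cases i <;> rfl] at this
        intro j
        rcases (show ∀ i j : Fin 3, j = i ∨ j = i + 1 ∨ j = i + 2 by decide) i j with rfl | rfl | rfl
        exacts [hi, h1, h2]
      have hb : ∀ v ∈ F₀, ρ b v - v ∈ N := fun v _ => by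
        obtain ⟨v0, c, hv0, rfl⟩ := he.decomp v
        simp only [map_add, map_smul, he.b_apply, he.b_fix v0 hv0]
        have heq : v0 + c 0 • e (0 + 1) + c 1 • e (1 + 1) + c 2 • e (2 + 1) -
            (v0 + c 0 • e 0 + c 1 • e 1 + c 2 • e 2) =
            (c 0 • e (0 + 1) + c 1 • e (1 + 1) + c 2 • e (2 + 1)) -
              (c 0 • e 0 + c 1 • e 1 + c 2 • e 2) := by abel
        rw [heq]
        exact sub_mem
          (add_mem (add_mem (N.smul_mem _ (hall _)) (N.smul_mem _ (hall _))) (N.smul_mem _ (hall _)))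
          (add_mem (add_mem (N.smul_mem _ (hall _)) (N.smul_mem _ (hall _))) (N.smul_mem _ (hall _)))
      have h := hK F₀ N hN hinv hNi hb
      refine le_antisymm hN fun v hv => ?_
      have hv' : avg v = 0 := hv
      have hsum : sc • ∑ r : R, (ρ (r : S) v - v) ∈ N :=
        N.smul_mem _ (N.sum_mem fun r _ => h r r.2 v hv)
      rw [Finset.sum_sub_distrib, smul_sub, ← havg, hv', Finset.sum_const, Finset.card_univ,
        ← Nat.card_eq_fintype_card, ← Nat.cast_smul_eq_nsmul (ZMod 3), smul_smul, hsc, one_smul,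
        zero_sub, neg_mem_iff] at hsum
      exact hsum
    · left
      push Not at hex
      have hfixN : ∀ v ∈ N, ∀ i, ρ (z i) v = v := by
        intro v hv i
        obtain ⟨v0, c, hv0, hd⟩ := he.decomp v
        have hps : ∀ k, proj ρ z k (e k) = e k := fun k => by
          rw [proj_apply, he.z_self, he.z_other _ _ (by fin_cases k <;> decide),
            he.z_other _ _ (by fin_cases k <;> decide), sub_neg_eq_add, sub_neg_eq_add]
          exact four_smul _
        have hpn : ∀ k, proj ρ z k (e (k + 1)) = 0 := fun k => by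
          rw [proj_apply, he.z_other _ _ (by fin_cases k <;> decide), he.z_self,
            he.z_other _ _ (by fin_cases k <;> decide)]
          abel
        have hpp : ∀ k, proj ρ z k (e (k + 2)) = 0 := fun k => by
          rw [proj_apply, he.z_other _ _ (by fin_cases k <;> decide), he.z_self,
            he.z_other _ _ (by fin_cases k <;> decide)]
          abel
        have hpk : ∀ k, proj ρ z k v = c k • e k := fun k => by
          rw [hd]
          simp only [map_add, map_smul, proj_fixed hv0, zero_add]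
          fin_cases k
          · rw [show proj ρ z ⟨0, _⟩ (e 0) = e 0 from hps 0,
              show proj ρ z ⟨0, _⟩ (e 1) = 0 from hpn 0, show proj ρ z ⟨0, _⟩ (e 2) = 0 from hpp 0,
              smul_zero, smul_zero, add_zero, add_zero]
            rfl
          · rw [show proj ρ z ⟨1, _⟩ (e 0) = 0 from hpp 1,
              show proj ρ z ⟨1, _⟩ (e 1) = e 1 from hps 1, show proj ρ z ⟨1, _⟩ (e 2) = 0 from hpn 1,
              smul_zero, smul_zero, add_zero, zero_add]
            rfl
          · rw [show proj ρ z ⟨2, _⟩ (e 0) = 0 from hpn 2,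
              show proj ρ z ⟨2, _⟩ (e 1) = 0 from hpp 2, show proj ρ z ⟨2, _⟩ (e 2) = e 2 from hps 2,
              smul_zero, smul_zero, zero_add, zero_add]
            rfl
        have hc : ∀ k, c k = 0 := fun k => by
          by_contra hne
          have h := N.smul_mem (c k)⁻¹ (proj_mem hzN hv k)
          rw [hpk, smul_smul, inv_mul_cancel₀ hne, one_smul] at h
          exact hex k h
        rw [hd, hc, hc, hc]
        simp [hv0 i]
      have hR : ∀ r ∈ R, ∀ v ∈ N, ρ r v - v ∈ (⊥ : Submodule (ZMod 3) E) :=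
        hK N ⊥ bot_le hNi
          (fun g _ v hv => by rw [Submodule.mem_bot] at hv ⊢; rw [hv, map_zero])
          (fun v hv => by rw [he.b_fix v (hfixN v hv), sub_self]; exact zero_mem _)
      refine (Submodule.eq_bot_iff _).2 fun v hv => ?_
      have h := hfix v (fun r hr => by simpa [sub_eq_zero] using hR r hr v hv)
      rw [← h]
      exact hN hv
  -- faithfulness
  have hRfaith : ∀ r ∈ R, (∀ v ∈ F₀, ρ r v = v) → r = 1 := fun r hr h => hρ (LinearMap.ext fun v => by
    have hv : v ∈ F₀ ⊔ F₁ := hsup ▸ Submodule.mem_top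
    obtain ⟨a, ha, c, hc, rfl⟩ := Submodule.mem_sup.1 hv
    rw [map_add, h a ha, hF₁ r hr c hc, map_one, Module.End.one_apply])
  have hfaith : ∀ g ∈ HB, (∀ v ∈ F₀, ρ g v = v) → g = 1 := by
    intro g hg h
    obtain ⟨r, hr, k, rfl⟩ := hdec g hg
    suffices hk : b ^ k = 1 by rw [hk, mul_one] at h ⊢; exact hRfaith r hr h
    by_contra hk
    obtain ⟨n, hn, hcopn⟩ : ∃ n, r ^ n = 1 ∧ Nat.Coprime 3 n :=
      ⟨Nat.card R, congrArg Subtype.val (pow_card_eq_one' (x := (⟨r, hr⟩ : R))),
        Nat.prime_three.coprime_iff_not_dvd.2 hcop⟩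
    have hbk : ∀ v ∈ F₀, ρ (b ^ k) v = ρ r⁻¹ v := fun v hv => by
      conv_rhs => rw [← h v hv, rep_mul, rep_inv_self]
    have hpow : ∀ j, ∀ v ∈ F₀, ρ ((b ^ k) ^ j) v = ρ (r⁻¹ ^ j) v := fun j => by
      induction j with
      | zero => intro v _; rw [pow_zero, pow_zero]
      | succ j ih =>
        intro v hv
        rw [pow_succ, pow_succ, rep_mul, rep_mul, hbk v hv]
        exact ih _ (hinv _ (hRle (inv_mem hr)) v hv)
    have hk3 : ¬ 3 ∣ k := fun ⟨m, hm⟩ => hk (by rw [hm, pow_mul, hJ.cube, one_pow])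
    obtain ⟨m, hm⟩ := Nat.exists_mul_mod_eq_one_of_coprime
      ((Nat.prime_three.coprime_iff_not_dvd.2 (fun hd =>
        (Nat.Prime.dvd_mul Nat.prime_three).1 hd |>.elim hk3
          (Nat.prime_three.coprime_iff_not_dvd.1 hcopn))).symm : Nat.Coprime (k * n) 3) (by norm_num)
    have hb1 : ρ b (e 0) = e 0 := by
      have h1 := hpow (n * m) (e 0) (he0 0)
      rw [← pow_mul, ← mul_assoc, ← Nat.mod_add_div (k * n * m) 3, hm.2, pow_add, pow_mul b 3,
        hJ.cube, one_pow, mul_one, pow_one, pow_mul, inv_pow, hn, inv_one, one_pow, map_one,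
        Module.End.one_apply] at h1
      exact h1
    have h2 : e (1 : Fin 3) = e 0 := (he.b_apply 0).symm.trans hb1
    have h3 := congrArg (ρ (z 0)) h2
    rw [he.z_other 0 1 (by decide), he.z_self, h2, neg_eq_self_iff] at h3
    exact he.ne 0 h3
  refine ⟨?_, F₀, F₁, hinf, hsup, hF₁, hinv, hfaith, hirr⟩
  -- apply the irreducible case to the action on `F₀`
  let σ : Representation (ZMod 3) HB F₀ :=
    { toFun := fun g => (ρ (g : S)).restrict (hinv g g.2)
      map_one' := LinearMap.ext fun v => Subtype.ext (by simp [LinearMap.restrict_apply])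
      map_mul' := fun g k => LinearMap.ext fun v => Subtype.ext (rep_mul (ρ := ρ) (g : S) k v) }
  have hσ : ∀ g v, ((σ g v : F₀) : E) = ρ (g : S) v := fun g v => rfl
  have hσinj : Function.Injective σ := fun g k h => Subtype.ext (by
    have h1 : (g : S)⁻¹ * k = 1 := hfaith _ (mul_mem (inv_mem g.2) k.2) fun v hv => by
      have := congrArg Subtype.val (LinearMap.congr_fun h ⟨v, hv⟩)
      rw [hσ, hσ] at this
      rw [rep_mul, ← this, rep_inv_self]
    exact inv_mul_eq_one.1 h1)
  haveI hnorm : (R.subgroupOf HB).Normal := Subgroup.normal_subgroupOf_of_le_normalizer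
    (sup_le Subgroup.le_normalizer hbn)
  have hJσ : Jordan σ ⟨b, hbH⟩ := by
    refine ⟨Subtype.ext hJ.cube, ?_, ?_⟩
    · have hle : (LinearMap.range (σ ⟨b, hbH⟩ - 1)).map F₀.subtype ≤ LinearMap.range (ρ b - 1) := by
        rintro _ ⟨_, ⟨v, rfl⟩, rfl⟩; exact ⟨v, rfl⟩
      rw [← Submodule.finrank_map_subtype_eq]
      exact (Submodule.finrank_mono hle).trans hJ.rank₁
    · have hle : (LinearMap.range ((σ ⟨b, hbH⟩ - 1) ^ 2)).map F₀.subtype ≤
          LinearMap.range ((ρ b - 1) ^ 2) := by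
        rintro _ ⟨_, ⟨v, rfl⟩, rfl⟩
        refine ⟨v, ?_⟩
        rw [pow_two, pow_two]; rfl
      rw [← Submodule.finrank_map_subtype_eq]
      exact (Submodule.finrank_mono hle).trans hJ.rank₂
  have hc : Core σ ⟨b, hbH⟩ (R.subgroupOf HB) := by
    refine ⟨inferInstance, hσinj, fun M hM => ?_, hJσ, hnorm, ?_, ?_, ?_, ?_⟩
    · rcases hirr (M.map F₀.subtype) (Submodule.map_subtype_le _ _) (by
        rintro g hg _ ⟨v, hv, rfl⟩; exact ⟨_, hM ⟨g, hg⟩ v hv, rfl⟩) with h | h
      · left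
        exact Submodule.map_injective_of_injective F₀.injective_subtype
          (h.trans (Submodule.map_bot _).symm)
      · right
        exact Submodule.map_injective_of_injective F₀.injective_subtype
          (h.trans (Submodule.map_subtype_top _).symm)
    · rwa [Nat.card_congr (Subgroup.subgroupOfEquivOfLe hRle).toEquiv]
    · apply Subgroup.map_injective HB.subtype_injective
      rw [Subgroup.map_commutator, MonoidHom.map_zpowers, Subgroup.map_subgroupOf_eq_of_le hRle]
      exact hcomm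
    · intro g
      obtain ⟨r, hr, k, hk⟩ := hdec g g.2
      exact ⟨⟨r, hRle hr⟩, hr, k, Subtype.ext (by simpa using hk)⟩
    · exact ⟨fun i => ⟨z i, hRle (hzR i)⟩,
        ⟨fun i => Subtype.ext (hz.sq i), fun i => Subtype.ext (hz.mul i),
          fun i j => Subtype.ext (hz.comm i j).eq, fun i => Subtype.ext (hz.conj i),
          fun i h => hz.ne i (congrArg Subtype.val h)⟩, fun i => hzR i⟩
  let ι := Subgroup.subgroupOfEquivOfLe hRle
  have hmapel : ∀ A : Subgroup HB, IsElementaryAbelian 2 A →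
      IsElementaryAbelian 2 (A.map HB.subtype) := fun A hA => by
    refine ⟨⟨⟨?_⟩⟩, ?_⟩
    · rintro ⟨_, a, ha, rfl⟩ ⟨_, a', ha', rfl⟩
      exact Subtype.ext (congrArg (fun u : A => ((u : HB) : S))
        (hA.1.is_comm.comm ⟨a, ha⟩ ⟨a', ha'⟩))
    · rintro _ ⟨a, ha, rfl⟩; rw [← map_pow, hA.2 a ha, map_one]
  rcases hc.structure_R with ⟨h1, h2⟩ | ⟨h1, h2, A, hAle, hA, hA8⟩
  · left
    have := hmapel _ h1
    rw [Subgroup.map_subgroupOf_eq_of_le hRle] at this
    exact ⟨this, by rwa [Nat.card_congr ι.toEquiv] at h2⟩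
  · right
    refine ⟨?_, by rwa [Nat.card_congr ι.toEquiv] at h2, A.map HB.subtype, ?_, hmapel A hA, ?_⟩
    · obtain ⟨⟨hp, hf, hd⟩, hz2⟩ := h1
      have hcz : (Subgroup.center (R.subgroupOf HB)).map ι.toMonoidHom = Subgroup.center R := by
        ext x
        rw [Subgroup.mem_map_equiv, Subgroup.mem_center_iff, Subgroup.mem_center_iff]
        exact ⟨fun h y => ι.symm.injective (by rw [map_mul, map_mul]; exact h _),
          fun h y => ι.injective (by
            rw [map_mul, map_mul, MulEquiv.apply_symm_apply]; exact h (ι y))⟩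
      refine ⟨⟨hp.of_equiv ι, ?_, ?_⟩, ?_⟩
      · rw [← Base.map_frattini_mulEquiv ι, hf, hcz]
      · rw [← hcz, ← hd, commutator_def, commutator_def, Subgroup.map_commutator,
          Subgroup.map_top_of_surjective _ ι.surjective]
      · rw [← hcz, Subgroup.card_map_of_injective (f := ι.toMonoidHom) ι.injective, hz2]
    · exact (Subgroup.map_mono hAle).trans (Subgroup.map_subgroupOf_eq_of_le hRle).le
    · rw [Subgroup.card_map_of_injective HB.subtype_injective, hA8]

end CfsgLib.SolvStruct.JordanThree
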