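import Cfsg.Agent.Lib.SolvStruct.JordanThree.Core

/-!
# A normal elementary abelian two-subgroup outside the scalars
-/

set_option autoImplicit false
set_option linter.style.haveILetI false

namespace CfsgLib.SolvStruct.JordanThree

open Cfsg
open scoped commutatorElement

variable {H : Type*} [Group H] {V : Type*} [AddCommGroup V] [Module (ZMod 3) V]
  {ρ : Representation (ZMod 3) H V}

/-- A group acting faithfully in dimension at most four over the field with three elements. -/
theorem card_dvd_of_finrank_le [Finite H] [Finite V] (hρ : Function.Injective ρ)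
    (hd : Module.finrank (ZMod 3) V ≤ 4) : Nat.card H ∣ 2 ^ 9 * 3 ^ 6 * 5 * 13 := by
  let bs := Module.finBasis (ZMod 3) V
  let φ : H →* GL (Fin (Module.finrank (ZMod 3) V)) (ZMod 3) :=
    (Units.map (LinearMap.toMatrixAlgEquiv bs).toMulEquiv.toMonoidHom).comp ρ.toHomUnits
  have hφ : Function.Injective φ := fun g h hgh => hρ ((LinearMap.toMatrixAlgEquiv bs).injective
    (congrArg Units.val hgh))
  refine (Subgroup.card_dvd_of_injective φ hφ).trans ?_
  rw [Matrix.card_GL_field]
  simp only [ZMod.card]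
  generalize Module.finrank (ZMod 3) V = d at hd
  interval_cases d <;> simp [Fin.prod_univ_succ]

namespace Core

variable {b : H} {R : Subgroup H}

theorem ne_one (hc : Core ρ b R) : b ≠ 1 := by
  rintro rfl
  obtain ⟨z, hz, -⟩ := hc.triple
  refine hz.ne 2 ?_
  have h : z 0 = z 1 := by simpa using hz.conj 0
  rw [← show z 0 * z 1 = z 2 from hz.mul 0, ← h, hz.sq]

/-- No central element squares to `-1`. -/
theorem false_of_central_sq_neg_one [Finite V] (hc : Core ρ b R) {x : H}
    (hx : x ∈ Subgroup.center H) (h2 : ρ (x * x) = -1) : False := by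
  obtain ⟨z, hz, -⟩ := hc.triple
  obtain ⟨e, he⟩ := hz.exists_frame hc.jordan hc.inj
  set N := ((ρ b - 1 : Module.End (ZMod 3) V) ^ 2) with hN
  have hN2 : ∀ v, N v = ρ b (ρ b v) - ρ b v - (ρ b v - v) := fun v => by
    rw [hN, pow_two, Module.End.mul_apply]
    simp only [LinearMap.sub_apply, Module.End.one_apply, map_sub]
  have hw : N (e 0) ≠ 0 := by
    intro h
    rw [hN2, he.b_apply, show (0 : Fin 3) + 1 = 1 from rfl, he.b_apply,
      show (1 : Fin 3) + 1 = 2 from rfl] at h
    have h' := congrArg (ρ (z 0)) h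
    simp only [map_sub, map_zero, he.z_self, he.z_other 0 1 (by decide),
      he.z_other 0 2 (by decide)] at h'
    refine he.ne 0 ((neg_eq_self_iff _).1 ?_)
    rw [neg_eq_iff_add_eq_zero]
    calc _ = (e 2 - e 1 - (e 1 - e 0)) + (-e 2 - -e 1 - (-e 1 - e 0)) := by abel
      _ = 0 := by rw [h, h', add_zero]
  have hcm : ∀ v, ρ x (N v) = N (ρ x v) := fun v => by
    have hb : ∀ u, ρ x (ρ b u) = ρ b (ρ x u) := fun u => by
      rw [← rep_mul, ← rep_mul, ← Subgroup.mem_center_iff.1 hx b]
    rw [hN2, hN2]; simp only [map_sub, hb]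
  have hspan : LinearMap.range N ≤ Submodule.span (ZMod 3) {N (e 0)} := by
    refine le_of_eq (Submodule.eq_of_le_of_finrank_le ?_ ?_).symm
    · exact (Submodule.span_singleton_le_iff_mem _ _).2 (LinearMap.mem_range_self _ _)
    · rw [finrank_span_singleton hw]; exact hc.jordan.rank₂
  obtain ⟨c, hc'⟩ := Submodule.mem_span_singleton.1 (hspan ⟨ρ x (e 0), rfl⟩)
  rw [← hcm] at hc'
  have hxx : ρ (x * x) (N (e 0)) = (c * c) • N (e 0) := by
    rw [rep_mul, ← hc', map_smul, ← hc', smul_smul]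
  rw [h2, LinearMap.neg_apply, Module.End.one_apply] at hxx
  have h0 : (c * c + 1) • N (e 0) = 0 := by rw [add_smul, one_smul, ← hxx, neg_add_cancel]
  exact absurd ((smul_eq_zero.1 h0).resolve_right hw)
    ((show ∀ d : ZMod 3, d * d + 1 ≠ 0 by decide) c)

/-- If every normal elementary abelian two-subgroup is scalar, so is every normal abelian one. -/
theorem scalar_of_abelian [Finite H] [Finite V] (hc : Core ρ b R)
    (hel : ∀ A : Subgroup H, A.Normal → IsElementaryAbelian 2 A → ∀ a ∈ A, Scalar ρ a)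
    {C : Subgroup H} [C.Normal] [IsMulCommutative C] (hC : IsPGroup 2 C) :
    ∀ x ∈ C, Scalar ρ x := by
  have hcm : ∀ a ∈ C, ∀ c ∈ C, Commute a c := fun a ha c hc' =>
    congrArg Subtype.val (IsMulCommutative.is_comm.comm (⟨a, ha⟩ : C) ⟨c, hc'⟩)
  have hsq : ∀ a ∈ C, ∀ c ∈ C, a * c * (a * c) = a * a * (c * c) := fun a ha c hc' =>
    (hcm c hc' a ha).mul_mul_mul_comm a c
  have hinv : ∀ a : H, a⁻¹ * a⁻¹ = (a * a)⁻¹ := fun a => (mul_inv_rev a a).symm
  have hconj : ∀ g a : H, g * a * g⁻¹ * (g * a * g⁻¹) = g * (a * a) * g⁻¹ := fun g a => by group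
  let Om : Subgroup H :=
    { carrier := {x | x ∈ C ∧ x * x = 1}
      one_mem' := ⟨C.one_mem, one_mul 1⟩
      mul_mem' := fun {a c} ha hc' =>
        ⟨C.mul_mem ha.1 hc'.1, by rw [hsq a ha.1 c hc'.1, ha.2, hc'.2, one_mul]⟩
      inv_mem' := fun {a} ha => ⟨C.inv_mem ha.1, by rw [hinv, ha.2, inv_one]⟩ }
  have hOmN : Om.Normal := ⟨fun a ha g => ⟨(inferInstance : C.Normal).conj_mem a ha.1 g, by
    rw [hconj, ha.2, mul_one, mul_inv_cancel]⟩⟩
  have hOm : ∀ x ∈ Om, Scalar ρ x := hel Om hOmN
    ⟨⟨⟨fun a c => Subtype.ext (hcm a a.2.1 c c.2.1)⟩⟩, fun a ha => (pow_two a).trans ha.2⟩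
  let C' : Subgroup H :=
    { carrier := {x | x ∈ C ∧ Scalar ρ (x * x)}
      one_mem' := ⟨C.one_mem, by rw [one_mul]; exact Scalar.one⟩
      mul_mem' := fun {a c} ha hc' =>
        ⟨C.mul_mem ha.1 hc'.1, by rw [hsq a ha.1 c hc'.1]; exact ha.2.mul hc'.2⟩
      inv_mem' := fun {a} ha => ⟨C.inv_mem ha.1, by rw [hinv]; exact ha.2.inv hc.inj⟩ }
  haveI : C'.Normal := ⟨fun a ha g => ⟨(inferInstance : C.Normal).conj_mem a ha.1 g, by
    rw [hconj, ← (ha.2.commute hc.inj g).eq, mul_inv_cancel_right]; exact ha.2⟩⟩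
  have hb : b ∈ Subgroup.centralizer (C' : Set H) := by
    rw [Subgroup.mem_centralizer_iff]
    intro a ha
    have haC : a ∈ C := ha.1
    have hbaC : b * a * b⁻¹ ∈ C := (inferInstance : C.Normal).conj_mem a haC b
    have hd : Scalar ρ (a⁻¹ * (b * a * b⁻¹)) := by
      refine hOm _ ⟨C.mul_mem (C.inv_mem haC) hbaC, ?_⟩
      rw [hsq _ (C.inv_mem haC) _ hbaC, hinv, hconj, ← (ha.2.commute hc.inj b).eq,
        mul_inv_cancel_right, inv_mul_cancel]
    have h1 := hc.eq_one_of_conj_eq hd (mul_inv_cancel_left a _).symm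
    rw [inv_mul_eq_one] at h1
    exact eq_mul_inv_iff_mul_eq.1 h1
  have hC' := hc.le_center_of_commute hb
  have hC'S : ∀ x ∈ C', Scalar ρ x := fun x hx => by
    rcases hx.2 with h | h
    · exact hOm x ⟨hx.1, hc.inj (by rw [h, map_one])⟩
    · exact (hc.false_of_central_sq_neg_one (hC' hx) h).elim
  intro x hx
  obtain ⟨n, hn⟩ := hC ⟨x, hx⟩
  have hn' : x ^ (2 ^ n) = 1 := congrArg Subtype.val hn
  clear hn
  induction n generalizing x with
  | zero => rw [pow_zero, pow_one] at hn'; rw [hn']; exact Scalar.one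
  | succ n ih =>
    refine hC'S x ⟨hx, ih _ (C.mul_mem hx hx) ?_⟩
    rw [← pow_two, ← pow_mul, ← pow_succ', hn']

/-- There is a normal elementary abelian two-subgroup containing a non-scalar element. -/
theorem exists_elementary [Finite H] [Finite V] (hc : Core ρ b R) :
    ∃ A : Subgroup H, A.Normal ∧ IsElementaryAbelian 2 A ∧ ∃ a ∈ A, ¬ Scalar ρ a := by
  haveI := hc.solvable
  haveI := hc.normal
  haveI : Fact (Nat.Prime 2) := ⟨Nat.prime_two⟩
  by_contra hcon
  have hel : ∀ A : Subgroup H, A.Normal → IsElementaryAbelian 2 A → ∀ a ∈ A, Scalar ρ a :=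
    fun A hA hA' a ha => by_contra fun h => hcon ⟨A, hA, hA', a, ha, h⟩
  set N := pCore 2 H with hNdef
  haveI hNn : N.Normal := Subgroup.sSup_normal _ fun _ h => h.1
  have hN2 : IsPGroup 2 N := Base.isPGroup_pCore 2 H
  have hcomm : ∀ s, Scalar ρ s → ∀ g, Commute s g := fun s hs g => hs.commute hc.inj g
  -- the derived subgroup of `N` is scalar
  have hstep : ∀ X : Subgroup H, X.Normal → X ≤ ⁅N, N⁆ → (∀ y ∈ ⁅X, N⁆, Scalar ρ y) →
      ∀ y ∈ X, Scalar ρ y := by
    intro X hX hXN hXc
    haveI := hX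
    have h1 : ⁅⁅X, N⁆, N⁆ = ⊥ := by
      rw [Subgroup.commutator_eq_bot_iff_le_centralizer]
      intro y hy
      rw [Subgroup.mem_centralizer_iff]
      exact fun g _ => ((hcomm y (hXc y hy) g).eq).symm
    have h2 : ⁅⁅N, X⁆, N⁆ = ⊥ := by rwa [Subgroup.commutator_comm N X]
    have h3 : ⁅⁅N, N⁆, X⁆ = ⊥ := Subgroup.commutator_commutator_eq_bot_of_rotate h2 h1
    haveI : IsMulCommutative X := ⟨⟨fun a c => Subtype.ext (by
      have h4 := Subgroup.commutator_eq_bot_iff_le_centralizer.1 h3 (hXN a.2)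
      exact ((Subgroup.mem_centralizer_iff.1 h4) c c.2).symm)⟩⟩
    exact hc.scalar_of_abelian hel
      (hN2.to_le (hXN.trans (Subgroup.commutator_le_left N N)))
  have hder : ∀ y ∈ ⁅N, N⁆, Scalar ρ y := by
    obtain ⟨c, hcn⟩ := (Subgroup.isNilpotent_iff_lowerCentralSeries N).1 hN2.isNilpotent
    have hanti : ∀ i, N.lowerCentralSeries (i + 1) ≤ ⁅N, N⁆ := by
      intro i
      induction i with
      | zero => rw [Subgroup.lowerCentralSeries_succ, Subgroup.lowerCentralSeries_zero]
      | succ i ih => exact (N.lowerCentralSeries_antitone (by omega : i + 1 ≤ i + 1 + 1)).trans ih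
    have key : ∀ j i, c ≤ i + j → ∀ y ∈ N.lowerCentralSeries (i + 1), Scalar ρ y := by
      intro j
      induction j with
      | zero =>
        intro i hi y hy
        have := N.lowerCentralSeries_antitone (by omega : c ≤ i + 1) hy
        rw [hcn, Subgroup.mem_bot] at this
        rw [this]; exact Scalar.one
      | succ j ih =>
        intro i hi
        refine hstep _ (Subgroup.lowerCentralSeries_normal N (i + 1)) (hanti i) ?_
        rw [← Subgroup.lowerCentralSeries_succ]
        exact ih (i + 1) (by omega)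
    intro y hy
    refine key c 0 (by omega) y ?_
    rwa [Subgroup.lowerCentralSeries_succ, Subgroup.lowerCentralSeries_zero]
  have hcl : ∀ g ∈ N, ∀ x ∈ N, ∃ s, Scalar ρ s ∧ g * x * g⁻¹ = s * x := fun g hg x hx =>
    ⟨⁅g, x⁆, hder _ (Subgroup.commutator_mem_commutator hg hx),
      by rw [commutatorElement_def]; group⟩
  -- central elements and squares of `N` are scalar
  have hZ : ∀ y ∈ N, (∀ g ∈ N, Commute g y) → Scalar ρ y := by
    intro y hy hcy
    haveI : IsMulCommutative ↥(N ⊓ Subgroup.centralizer (N : Set H)) :=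
      ⟨⟨fun a c => Subtype.ext ((Subgroup.mem_centralizer_iff.1 a.2.2 c c.2.1).symm)⟩⟩
    exact hc.scalar_of_abelian hel (hN2.to_le inf_le_left) y
      ⟨hy, Subgroup.mem_centralizer_iff.2 fun g hg => hcy g hg⟩
  have hsquare : ∀ x ∈ N, Scalar ρ (x * x) := fun x hx => hZ _ (mul_mem hx hx) fun g hg => by
    obtain ⟨s, hs, h⟩ := hcl g hg x hx
    rw [Commute, SemiconjBy, ← mul_inv_eq_iff_eq_mul]
    calc g * (x * x) * g⁻¹ = (g * x * g⁻¹) * (g * x * g⁻¹) := by group
      _ = s * x * (s * x) := by rw [h]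
      _ = x * x := by
        rw [(hcomm s hs x).symm.mul_mul_mul_comm s x, hs.sq hc.inj, one_mul]
  -- `b` does not centralise `N`
  obtain ⟨x, hxN, hx⟩ : ∃ x ∈ N, b * x * b⁻¹ ≠ x := by
    by_contra h
    push Not at h
    have hbC : b ∈ Subgroup.centralizer (N : Set H) := Subgroup.mem_centralizer_iff.2 fun g hg =>
      (mul_inv_eq_iff_eq_mul.1 (h g hg)).symm
    obtain ⟨n, hn⟩ := hN2 ⟨b, hc.centralizer_pCore_two_le hbC⟩
    have hn' : b ^ (2 ^ n) = 1 := congrArg Subtype.val hn
    have hcop : Nat.Coprime 3 (2 ^ n) := Nat.Coprime.pow_right _ (by norm_num)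
    exact hc.ne_one (by simpa [hcop.gcd_eq_one] using
      (pow_gcd_eq_one (a := b) (m := 3) (n := 2 ^ n)).2 ⟨hc.jordan.cube, hn'⟩)
  set y := x⁻¹ * (b * x * b⁻¹) with hy
  have hyN : y ∈ N := mul_mem (inv_mem hxN) (hNn.conj_mem x hxN b)
  have hynS : ¬ Scalar ρ y := fun hs => hx (by
    have := hc.eq_one_of_conj_eq hs (mul_inv_cancel_left x _).symm
    rw [hy, inv_mul_eq_one] at this
    exact this.symm)
  -- the dimension is at most four
  have hdim : Module.finrank (ZMod 3) V ≤ 4 := by
    rcases hsquare y hyN with h1 | h1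
    · have hyy : y * y = 1 := hc.inj (by rw [h1, map_one])
      obtain ⟨z', hz', hz0⟩ := Triple.of_conj hc.jordan.cube
        (fun h => hynS (by rw [hy, h]; exact Scalar.one)) hyy
      obtain ⟨e', he'⟩ := hz'.exists_frame hc.jordan hc.inj
      have hzN : ∀ i, z' i ∈ N := by
        have h0 : z' 0 ∈ N := by rw [hz0]; exact hyN
        have h1' : z' 1 ∈ N := by
          have := hNn.conj_mem _ h0 b; rwa [hz'.conj] at this
        intro i
        fin_cases i
        · exact h0
        · exact h1'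
        · have := mul_mem h0 h1'; rwa [show z' 0 * z' 1 = z' 2 from hz'.mul 0] at this
      have hnc : ¬ ∀ g ∈ N, Commute g (z' 0) := fun h =>
        hynS (by have := hZ _ (hzN 0) h; rwa [hz0] at this)
      push Not at hnc
      obtain ⟨g, hg, hgy⟩ := hnc
      let F : Submodule (ZMod 3) V :=
        { carrier := {v | ∀ i, ρ (z' i) v = v}
          add_mem' := fun {u w} hu hw i => by rw [map_add, hu i, hw i]
          zero_mem' := fun i => map_zero _
          smul_mem' := fun c u hu i => by rw [map_smul, hu i] }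
      have hsgn : ∀ i, ∃ s, Scalar ρ s ∧ ∀ v ∈ F, ρ (z' i) (ρ g v) = ρ s (ρ g v) ∧
          (s = 1 → Commute g (z' i)) := by
        intro i
        obtain ⟨s, hs, h⟩ := hcl g hg _ (hzN i)
        refine ⟨s, hs, fun v hv => ⟨?_, fun h' => ?_⟩⟩
        · have h' : z' i * g = s * (g * z' i) := by
            rw [mul_inv_eq_iff_eq_mul] at h
            rw [h, ← mul_assoc, ← mul_assoc, hs.sq hc.inj, one_mul]
          rw [← rep_mul, h', rep_mul, rep_mul, hv i]
        · rw [h', one_mul, mul_inv_eq_iff_eq_mul] at h; exact h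
      obtain ⟨s0, hs0, h0⟩ := hsgn 0
      obtain ⟨s1, hs1, h1'⟩ := hsgn 1
      have hneg : ∀ v ∈ F, ρ (z' 0) (ρ g v) = -ρ g v := fun v hv => by
        rcases hs0 with h | h
        · exact absurd ((h0 v hv).2 (hc.inj (by rw [h, map_one]))) hgy
        · rw [(h0 v hv).1, h]; rfl
      obtain ⟨i, hi⟩ : ∃ i, F.map (ρ g) ≤ Submodule.span (ZMod 3) {e' i} := by
        rcases hs1 with h | h
        · refine ⟨1, ?_⟩
          rintro _ ⟨v, hv, rfl⟩
          have hp : ρ (z' 1) (ρ g v) = ρ g v := by rw [(h1' v hv).1, h]; rfl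
          obtain ⟨c, hc'⟩ := he'.line 1 _ hp (by
            change ρ (z' 2) _ = _
            rw [← show z' 0 * z' 1 = z' 2 from hz'.mul 0, rep_mul, hp, hneg v hv])
          exact Submodule.mem_span_singleton.2 ⟨c, hc'.symm⟩
        · refine ⟨2, ?_⟩
          rintro _ ⟨v, hv, rfl⟩
          have hp : ρ (z' 1) (ρ g v) = -ρ g v := by rw [(h1' v hv).1, h]; rfl
          obtain ⟨c, hc'⟩ := he'.line 2 _ (by
            rw [← show z' 0 * z' 1 = z' 2 from hz'.mul 0, rep_mul, hp, map_neg, hneg v hv, neg_neg])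
            (hneg v hv)
          exact Submodule.mem_span_singleton.2 ⟨c, hc'.symm⟩
      have hF : Module.finrank (ZMod 3) F ≤ 1 := by
        rw [(Submodule.equivMapOfInjective (ρ g) (fun u w => rep_inj g) F).finrank_eq]
        exact (Submodule.finrank_mono hi).trans
          (by rw [finrank_span_singleton (he'.ne i)])
      have htop : (⊤ : Submodule (ZMod 3) V) ≤ F ⊔ Submodule.span (ZMod 3) (Set.range e') := by
        intro v _
        obtain ⟨v0, c, hv0, rfl⟩ := he'.decomp v
        rw [add_assoc, add_assoc]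
        exact add_mem (Submodule.mem_sup_left hv0) (Submodule.mem_sup_right
          (add_mem (Submodule.smul_mem _ _ (Submodule.subset_span ⟨0, rfl⟩))
            (add_mem (Submodule.smul_mem _ _ (Submodule.subset_span ⟨1, rfl⟩))
              (Submodule.smul_mem _ _ (Submodule.subset_span ⟨2, rfl⟩)))))
      rw [← finrank_top (ZMod 3) V]
      refine (Submodule.finrank_mono htop).trans
        ((Submodule.finrank_add_le_finrank_add_finrank _ _).trans ?_)
      have : Module.finrank (ZMod 3) (Submodule.span (ZMod 3) (Set.range e')) ≤ 3 :=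
        finrank_range_le_card e'
      omega
    · set c := x⁻¹ * b * x with hcdef
      let Nr := LinearMap.range (ρ b - 1)
      have hNr : ∀ w, ρ b w - w ∈ Nr := fun w => LinearMap.mem_range_self (ρ b - 1) w
      have htop : (⊤ : Submodule (ZMod 3) V) ≤ Nr.map (ρ c) ⊔ Nr.map (ρ x⁻¹) := by
        intro v _
        obtain ⟨w, rfl⟩ : ∃ w, ρ y w - w = v := by
          refine ⟨ρ y v + v, ?_⟩
          rw [map_add, ← rep_mul, h1, LinearMap.neg_apply, Module.End.one_apply, ← sub_eq_zero]
          calc _ = -(v + v + v) := by abel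
            _ = 0 := by rw [three_smul, neg_zero]
        have heq : ρ y w - w = ρ c (-(ρ b (ρ b⁻¹ w) - ρ b⁻¹ w)) +
            ρ x⁻¹ (ρ b (ρ x w) - ρ x w) := by
          rw [hy, show x⁻¹ * (b * x * b⁻¹) = c * b⁻¹ by rw [hcdef]; group, rep_mul]
          simp only [map_sub, map_neg, rep_self_inv, rep_inv_self, hcdef, rep_mul]
          abel
        rw [heq]
        exact add_mem (Submodule.mem_sup_left ⟨_, neg_mem (hNr _), rfl⟩)
          (Submodule.mem_sup_right ⟨_, hNr _, rfl⟩)
      rw [← finrank_top (ZMod 3) V]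
      refine (Submodule.finrank_mono htop).trans
        ((Submodule.finrank_add_le_finrank_add_finrank _ _).trans ?_)
      have h2 := hc.jordan.rank₁
      have h3 := Submodule.finrank_map_le (ρ c) Nr
      have h4 := Submodule.finrank_map_le (ρ x⁻¹) Nr
      change Module.finrank (ZMod 3) Nr ≤ 2 at h2
      omega
  -- hence `R` is a two-group
  have hcop3 : Nat.Coprime (Nat.card R) (3 ^ 6) :=
    ((Nat.prime_three.coprime_iff_not_dvd.2 hc.coprime).symm).pow_right 6
  have hR1 : Nat.card R ∣ 2 ^ 9 * 5 * 13 := by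
    refine hcop3.dvd_of_dvd_mul_left (n := 2 ^ 9 * 5 * 13) ?_
    refine (Subgroup.card_subgroup_dvd_card R).trans
      ((card_dvd_of_finrank_le hc.inj hdim).trans (dvd_of_eq ?_))
    ring
  have hNR : N ≤ R := hc.pCore_two_le
  have hR2 : Nat.card R ∣ 2 ^ 9 * 5 := by
    haveI : Fact (Nat.Prime 13) := ⟨by norm_num⟩
    refine Nat.Coprime.dvd_of_dvd_mul_right ?_ hR1
    refine ((Nat.Prime.coprime_iff_not_dvd (by norm_num)).2 fun h13 => ?_).symm
    obtain ⟨u, hu⟩ := exists_prime_orderOf_dvd_card' 13 h13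
    have hu' : orderOf (u : H) = 13 := by rw [Subgroup.orderOf_coe, hu]
    have hP : IsPGroup 13 (Subgroup.zpowers (u : H)) :=
      IsPGroup.of_card (n := 1) (by rw [Nat.card_zpowers, hu', pow_one])
    have hmod := card_modEq_inf_centralizer hP (M := N)
      (by rw [Subgroup.normalizer_eq_top]; exact Subgroup.mem_top _)
    obtain ⟨a, ha⟩ := hN2.exists_card_eq
    obtain ⟨k, hk⟩ := (hN2.to_le (inf_le_left :
      N ⊓ Subgroup.centralizer ({(u : H)} : Set H) ≤ N)).exists_card_eq
    have ha9 : a < 10 := by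
      have h := (Subgroup.card_dvd_of_le hNR).trans hR1
      rw [ha] at h
      have hcop : Nat.Coprime (2 ^ a) (5 * 13) := Nat.Coprime.pow_left _ (by norm_num)
      rw [mul_assoc] at h
      have := (Nat.pow_dvd_pow_iff_le_right (by norm_num : 1 < 2)).1 (hcop.dvd_of_dvd_mul_right h)
      omega
    have hk9 : k < 10 := by
      have h := Subgroup.card_dvd_of_le (inf_le_left :
        N ⊓ Subgroup.centralizer ({(u : H)} : Set H) ≤ N)
      rw [ha, hk] at h
      have := (Nat.pow_dvd_pow_iff_le_right (by norm_num : 1 < 2)).1 h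
      omega
    rw [ha, hk] at hmod
    have hak : a = k := (show ∀ a < 10, ∀ k < 10, 2 ^ a % 13 = 2 ^ k % 13 → a = k by decide)
      a ha9 k hk9 hmod
    have heq := Subgroup.eq_of_le_of_card_ge (inf_le_left :
        N ⊓ Subgroup.centralizer ({(u : H)} : Set H) ≤ N) (by rw [ha, hk, hak])
    have huC : (u : H) ∈ Subgroup.centralizer (N : Set H) := by
      rw [Subgroup.mem_centralizer_iff]
      intro g hg
      rw [SetLike.mem_coe, ← heq] at hg
      exact Subgroup.mem_centralizer_singleton_iff.1 hg.2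
    obtain ⟨j, hj⟩ := hN2 ⟨u, hc.centralizer_pCore_two_le huC⟩
    have hj' : (u : H) ^ (2 ^ j) = 1 := congrArg Subtype.val hj
    have h13' := orderOf_dvd_of_pow_eq_one hj'
    rw [hu'] at h13'
    have := Nat.le_of_dvd (by norm_num) ((show Nat.Prime 13 by norm_num).dvd_of_dvd_pow h13')
    omega
  have hRN : R ≤ N := by
    haveI : (R.map (QuotientGroup.mk' N)).Normal :=
      Subgroup.Normal.map inferInstance _ (QuotientGroup.mk'_surjective N)
    have h := eq_bot_of_card_dvd (R := R.map (QuotientGroup.mk' N)) (c := QuotientGroup.mk' N b)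
      (by rw [← map_pow, hc.jordan.cube, map_one])
      (by rw [← MonoidHom.map_zpowers, ← Subgroup.map_commutator, hc.comm])
      ((Subgroup.card_map_dvd _ _).trans hR2) (Base.pCore_quotient_pCore 2 H)
    rwa [Subgroup.map_eq_bot_iff, QuotientGroup.ker_mk'] at h
  -- the normal closure of an involution of the triple
  obtain ⟨z, hz, hzR⟩ := hc.triple
  let K := Subgroup.normalClosure ({z 0} : Set H)
  have hconjs : ∀ h ∈ Group.conjugatesOfSet ({z 0} : Set H), ∃ i s, Scalar ρ s ∧ h = s * z i := by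
    intro h hh
    rw [Group.mem_conjugatesOfSet_iff] at hh
    obtain ⟨_, rfl, hh⟩ := hh
    obtain ⟨g, rfl⟩ := isConj_iff.1 hh
    obtain ⟨r, hr, k, rfl⟩ := hc.gen g
    obtain ⟨i, hi⟩ : ∃ i, b ^ k * z 0 * (b ^ k)⁻¹ = z i := by
      clear hh
      induction k with
      | zero => exact ⟨0, by simp⟩
      | succ k ih =>
        obtain ⟨i, hi⟩ := ih
        exact ⟨i + 1, by rw [← hz.conj, ← hi, pow_succ']; group⟩
    obtain ⟨s, hs, hs'⟩ := hcl r (hRN hr) (z i) (hRN (hzR i))
    exact ⟨i, s, hs, by rw [← hs', ← hi]; group⟩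
  have hpair : ∀ u ∈ Group.conjugatesOfSet ({z 0} : Set H),
      ∀ w ∈ Group.conjugatesOfSet ({z 0} : Set H), Commute u w := by
    intro u hu w hw
    obtain ⟨i, s, hs, rfl⟩ := hconjs u hu
    obtain ⟨j, t, ht, rfl⟩ := hconjs w hw
    exact (hcomm s hs _).mul_left ((hcomm t ht _).symm.mul_right (hz.comm i j))
  have hK : IsMulCommutative K := by
    refine ⟨⟨fun p q => Subtype.ext ?_⟩⟩
    refine Subgroup.closure_induction (p := fun u _ => u * (q : H) = q * u) ?_ (by simp) ?_ ?_ p.2
    · intro u hu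
      refine Subgroup.closure_induction (p := fun w _ => u * w = w * u) ?_ (by simp) ?_ ?_ q.2
      · exact fun w hw => hpair u hu w hw
      · exact fun w w' _ _ h h' => Commute.mul_right h h'
      · exact fun w _ h => Commute.inv_right h
    · exact fun u u' _ _ h h' => Commute.mul_left h h'
    · exact fun u _ h => Commute.inv_left h
  have hK2 : ∀ u ∈ K, u ^ 2 = 1 := by
    intro u hu
    refine Subgroup.closure_induction (p := fun u _ => u ^ 2 = 1) ?_ (one_pow 2) ?_ ?_ hu
    · intro w hw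
      obtain ⟨i, s, hs, rfl⟩ := hconjs w hw
      rw [Commute.mul_pow (hcomm s hs _), pow_two, pow_two, hs.sq hc.inj, hz.sq, one_mul]
    · intro u u' hu hu' h h'
      rw [Commute.mul_pow (congrArg Subtype.val (hK.is_comm.comm ⟨u, hu⟩ ⟨u', hu'⟩)), h, h', one_mul]
    · intro u _ h
      rw [inv_pow, h, inv_one]
  rcases hel K Subgroup.normalClosure_normal ⟨hK, hK2⟩ (z 0)
      (Subgroup.subset_normalClosure rfl) with h | h
  · exact hz.ne 0 (hc.inj (by rw [h, map_one]))
  · obtain ⟨e, he⟩ := hz.exists_frame hc.jordan hc.inj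
    refine he.ne 0 ((neg_eq_self_iff _).1 ?_)
    conv_rhs => rw [← he.z_self 0, h]
    rfl

end Core

end CfsgLib.SolvStruct.JordanThree
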